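import Groth.Agent.FormalA.HUZero
import Groth.Agent.FormalB.PuncTheta
import Groth.Agent.CohqB.LimZero
import Groth.Agent.S0839
import Groth.Agent.S0840
import Groth.Agent.Fdesc.LocGen

/-!
# From `Formal2.FormalCohBijective` in degree zero to full faithfulness on finite locally free modules
-/

set_option autoImplicit false
universe u

open CategoryTheory AlgebraicGeometry Opposite TopologicalSpace

namespace K575.FFBridge

open Groth.Agent Groth.Agent.FormalB Groth.Agent.FormalB.PuncTheta Groth.Agent.FormalA.HUZero Groth.Agent.CohqB.LimZero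

variable {A : Type u} [CommRing A]

/-- `H^0(U, M~)` is the group of global sections of `M~|_U`. -/
noncomputable def e (M : Type u) [AddCommGroup M] [Module A M] (U : (Spec (CommRingCat.of A)).Opens) :
    Formal2.HV A M 0 (U.ι ''ᵁ ⊤) ≃ Γ((Theta U).obj (ModuleCat.of A M), ⊤) :=
  hu0 (X := (Spec (CommRingCat.of A)).toTopCat) (Coh.toAb (Formal2.tmod A M)) (U.ι ''ᵁ ⊤)

theorem e_map {M N : Type u} [AddCommGroup M] [Module A M] [AddCommGroup N] [Module A N] (φ : M →ₗ[A] N)
    (U : (Spec (CommRingCat.of A)).Opens) (x : Formal2.HV A M 0 (U.ι ''ᵁ ⊤)) :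
    e N U (Formal2.HVmap A φ 0 _ x) = (thetaMap U φ).app ⊤ (e M U x) :=
  hu0_map (X := (Spec (CommRingCat.of A)).toTopCat)
    ((SheafOfModules.toSheaf _).map (Formal2.tmodMap A φ)) (U.ι ''ᵁ ⊤) x

variable (I : Ideal A)

theorem secComplete_theta (M : Type u) [AddCommGroup M] [Module A M] (U : (Spec (CommRingCat.of A)).Opens)
    (h : Formal2.FormalCohBijective A I M 0 U) : SecComplete I ((Theta U).obj (ModuleCat.of A M)) := by
  have hW : U.ι ''ᵁ ⊤ = U := by simp
  have h' : Formal2.FormalCohBijective A I M 0 (U.ι ''ᵁ ⊤) := by rw [hW]; exact h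
  rw [secComplete_iff_of_isModPow (I := I) (M := (Theta U).obj (ModuleCat.of A M))
    (fun n => (Theta U).obj (ModuleCat.of A (Formal2.quotPow A I M n)))
    (fun n => thetaMap U (Formal2.quotPowπ A I M n))
    (fun n => isModPow_thetaMap U (I ^ (n + 1)) (Formal2.quotPowπ A I M n) (Submodule.mkQ_surjective _)
      (Submodule.ker_mkQ _))
    (fun n => thetaMap U (Formal2.quotPowTrans A I M n))
    (fun n => by
      rw [← Functor.map_comp]
      congr 1)]
  intro y hy
  obtain ⟨x, hx⟩ := h'.2 (fun n => (e (Formal2.quotPow A I M n) U).symm (y n)) (fun n => by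
    apply (e (Formal2.quotPow A I M n) U).injective
    rw [e_map, Equiv.apply_symm_apply, Equiv.apply_symm_apply, hy])
  refine ⟨e M U x, fun n => ?_, fun s hs => ?_⟩
  · change (thetaMap U (Formal2.quotPowπ A I M n)).app ⊤ (e M U x) = y n
    rw [← e_map, hx, Equiv.apply_symm_apply]
  · obtain ⟨x', rfl⟩ := (e M U).surjective s
    congr 1
    refine h'.1 x' x fun n => ?_
    apply (e (Formal2.quotPow A I M n) U).injective
    rw [hx, Equiv.apply_symm_apply, e_map]
    exact hs n

open Groth.Agent.Fdesc.LocGen in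
/-- The structure sheaf of `U`. -/
theorem nonempty_thetaSelf (U : (Spec (CommRingCat.of A)).Opens) :
    Nonempty ((Theta U).obj (ModuleCat.of A A) ≅ Coh.structureModule (U : Scheme.{u})) := by
  let L : (U : Scheme.{u}).Modules :=
    (Scheme.Modules.restrictFunctor U.ι).obj (Coh.structureModule (Spec (CommRingCat.of A)))
  let e : Γ(L, ⊤) := toRestrict (M := Coh.structureModule (Spec (CommRingCat.of A))) U.ι (one (U.ι ''ᵁ ⊤))
  have he : IsGen e := (isGen_toRestrict_iff U.ι _).2 (isGen_one _)
  have h1 : IsIso (homOf e) := by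
    rw [isIso_iff_isGen, sec_homOf, res_refl]
    exact he
  exact ⟨(Scheme.Modules.restrictFunctor U.ι).mapIso (tildeSelf (R := CommRingCat.of A)) ≪≫
    (asIso (homOf e)).symm⟩

/-- Full faithfulness of the completion functor on finite locally free modules over an open of `Spec A`. -/
theorem fullyFaithful [IsNoetherianRing A] (U : (Spec (CommRingCat.of A)).Opens)
    (h : Formal2.FormalCohBijective A I A 0 U) (E E' : (U : Scheme.{u}).Modules) (hE : FlatMod.IsFinLocFree E)
    (hE' : FlatMod.IsFinLocFree E') (ψ : Formal.completion I E ⟶ Formal.completion I E') :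
    ∃! φ : E ⟶ E', ∀ n : ℕ, Formal.modPowπ I (n + 1) E ≫ ψ.app (op n) = φ ≫ Formal.modPowπ I (n + 1) E' := by
  have hX : IsNoetherianRing (CommRingCat.of A) := inferInstanceAs (IsNoetherianRing A)
  have hX' : IsNoetherian (Spec (CommRingCat.of A)) := inferInstance
  have hc : CompactSpace (U : Scheme.{u}) :=
    isCompact_iff_compactSpace.mp (TopologicalSpace.NoetherianSpace.isCompact (U : Set (Spec (CommRingCat.of A))))
  have hN : IsNoetherian (U : Scheme.{u}) :=
    { __ := (inferInstance : IsLocallyNoetherian (U : Scheme.{u})), __ := hc }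
  have hQ : (U : Scheme.{u}).IsQuasiAffine := Scheme.IsQuasiAffine.of_isImmersion U.ι
  obtain ⟨e⟩ := nonempty_thetaSelf U
  have h1 := (secComplete_theta I A U h).of_iso e
  exact S0840.result A I (U : Scheme.{u}) (fun E hE => S0839.result A I _
    ((bijective_toHHlim_zero_iff I _).2 h1) E hE) E E' hE hE' ψ

end K575.FFBridge
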