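import Mathlib.CategoryTheory.CofilteredSystem
import Mathlib.Algebra.Category.Grp.Basic
import Mathlib.CategoryTheory.Functor.OfSequence
import Groth.Prelude.Def_Formal2

/-!
# Towers of abelian groups: vanishing of `lim^1`
-/

set_option autoImplicit false
universe u

open CategoryTheory

namespace K575.Towers

variable {G : ℕ → Type u} [∀ n, AddCommGroup (G n)] (t : ∀ n, G (n + 1) →+ G n)

/-- The composite transition map `G m → G n` for `n ≤ m`. -/
noncomputable def s {n m : ℕ} (h : n ≤ m) : G m →+ G n :=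
  ((Functor.ofOpSequence (X := fun n => AddCommGrpCat.of (G n)) (fun n => AddCommGrpCat.ofHom (t n))).map
    (homOfLE h).op).hom

theorem s_refl (n : ℕ) (x : G n) : s t (le_refl n) x = x :=
  congrArg (fun f => (AddCommGrpCat.Hom.hom f) x) (CategoryTheory.Functor.map_id (Functor.ofOpSequence
    (X := fun n => AddCommGrpCat.of (G n)) (fun n => AddCommGrpCat.ofHom (t n))) (Opposite.op n))

theorem s_trans {n m k : ℕ} (h : n ≤ m) (h' : m ≤ k) (x : G k) : s t h (s t h' x) = s t (h.trans h') x :=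
  (congrArg (fun f => (AddCommGrpCat.Hom.hom f) x) (CategoryTheory.Functor.map_comp (Functor.ofOpSequence
    (X := fun n => AddCommGrpCat.of (G n)) (fun n => AddCommGrpCat.ofHom (t n))) (homOfLE h').op
      (homOfLE h).op)).symm

theorem s_succ (n : ℕ) (x : G (n + 1)) : s t (Nat.le_succ n) x = t n x := by
  have h := Functor.ofOpSequence_map_homOfLE_succ (X := fun n => AddCommGrpCat.of (G n))
    (fun n => AddCommGrpCat.ofHom (t n)) n
  unfold s
  exact congrArg (fun f => (AddCommGrpCat.Hom.hom f) x) h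

theorem t_s (n m : ℕ) (h : n + 1 ≤ m) (x : G m) : t n (s t h x) = s t ((Nat.le_succ n).trans h) x := by
  rw [← s_succ, s_trans]

/-- General criterion: if the images of `G m → G n` are eventually contained in subgroups `S n` which form a tower
with surjective transition maps, then `lim^1 = 0`. -/
theorem surjective_towerDiff (S : ∀ n, AddSubgroup (G n))
    (hS : ∀ n, ∀ x ∈ S n, ∃ y ∈ S (n + 1), t n y = x)
    (key : ∀ n, ∃ m : ℕ, n ≤ m ∧ ∀ (k : ℕ) (_ : m ≤ k) (h : n ≤ k) (z : G k), s t h z ∈ S n) :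
    Function.Surjective (Formal2.towerDiff G t) := by
  intro y
  choose M₀ hM₀ hM₀' using key
  let M : ℕ → ℕ := fun n => (Finset.range (n + 1)).sup M₀
  have hMmono : ∀ n, M n ≤ M (n + 1) := fun n =>
    Finset.sup_mono (Finset.range_mono (Nat.le_succ _))
  have hM1 : ∀ n, M₀ n ≤ M n := fun n => Finset.le_sup (f := M₀) (Finset.self_mem_range_succ n)
  have hM2 : ∀ n, n ≤ M n := fun n => (hM₀ n).trans (hM1 n)
  let T : ∀ n (_ : ℕ), G n := fun n j =>
    if h : n ≤ j then s t h (y j) else 0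
  have hT : ∀ n j, n + 1 ≤ j → t n (T (n + 1) j) = T n j := by
    intro n j hj
    simp only [T, dif_pos hj, dif_pos ((Nat.le_succ n).trans hj)]
    exact t_s t n j hj (y j)
  let b₁ : ∀ n, G n := fun n => ∑ j ∈ Finset.Ico n (M n), T n j
  have hb : ∀ n, y n - (b₁ n - t n (b₁ (n + 1))) ∈ S n := by
    intro n
    have h1 : t n (b₁ (n + 1)) = ∑ j ∈ Finset.Ico (n + 1) (M (n + 1)), T n j := by
      simp only [b₁]
      rw [map_sum]
      exact Finset.sum_congr rfl (fun j hj => hT n j (Finset.mem_Ico.1 hj).1)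
    have h2 : ∀ j ∈ Finset.Ico (M n) (M (n + 1)), T n j ∈ S n := by
      intro j hj
      have h3 := (Finset.mem_Ico.1 hj).1
      have h4 : n ≤ j := (hM2 n).trans h3
      simp only [T, dif_pos h4]
      exact hM₀' n j ((hM1 n).trans h3) h4 (y j)
    have h5 : ∑ j ∈ Finset.Ico n (M (n + 1)), T n j = y n + ∑ j ∈ Finset.Ico (n + 1) (M (n + 1)), T n j := by
      have hn : n < M (n + 1) := lt_of_lt_of_le (Nat.lt_succ_self n) (hM2 (n + 1))
      rw [Finset.sum_eq_sum_Ico_succ_bot hn]
      congr 1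
      simp only [T, dif_pos (le_refl n)]
      exact s_refl t n _
    have h6 : ∑ j ∈ Finset.Ico n (M n), T n j + ∑ j ∈ Finset.Ico (M n) (M (n + 1)), T n j =
        ∑ j ∈ Finset.Ico n (M (n + 1)), T n j :=
      Finset.sum_Ico_consecutive _ (hM2 n) (hMmono n)
    have h7 : y n - (b₁ n - t n (b₁ (n + 1))) = ∑ j ∈ Finset.Ico (M n) (M (n + 1)), T n j := by
      rw [h1]
      simp only [b₁]
      rw [h5] at h6
      rw [← sub_eq_zero]
      have h8 : y n - (∑ j ∈ Finset.Ico n (M n), T n j - ∑ j ∈ Finset.Ico (n + 1) (M (n + 1)), T n j) -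
          ∑ j ∈ Finset.Ico (M n) (M (n + 1)), T n j =
          (y n + ∑ j ∈ Finset.Ico (n + 1) (M (n + 1)), T n j) -
            (∑ j ∈ Finset.Ico n (M n), T n j + ∑ j ∈ Finset.Ico (M n) (M (n + 1)), T n j) := by abel
      rw [h8, h6, sub_self]
    rw [h7]
    exact sum_mem h2
  -- solve inside the tower `S`
  have step : ∀ n (c : S n), ∃ c' : S (n + 1),
      t n (c' : G (n + 1)) = (c : G n) - (y n - (b₁ n - t n (b₁ (n + 1)))) := by
    intro n c
    obtain ⟨c', hc', h⟩ := hS n _ (sub_mem c.2 (hb n))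
    exact ⟨⟨c', hc'⟩, h⟩
  choose nxt hnxt using step
  let c : ∀ n, S n := fun n => Nat.rec (motive := fun n => S n) 0 (fun n c => nxt n c) n
  have hc : ∀ n, t n (c (n + 1) : G (n + 1)) = (c n : G n) - (y n - (b₁ n - t n (b₁ (n + 1)))) := fun n =>
    hnxt n (c n)
  refine ⟨fun n => b₁ n + c n, ?_⟩
  funext n
  change (b₁ n + (c n : G n)) - t n (b₁ (n + 1) + (c (n + 1) : G (n + 1))) = y n
  rw [map_add, hc]
  abel

theorem mem_limZero_iff (x : ∀ n, G n) : x ∈ Formal2.limZero G t ↔ ∀ n, x n = t n (x (n + 1)) := by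
  rw [AddMonoidHom.mem_ker]
  constructor
  · intro h n
    exact sub_eq_zero.1 (congrFun h n)
  · intro h
    funext n
    exact sub_eq_zero.2 (h n)

end K575.Towers
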