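import Groth.Agent.Ega4B.DepthBasic
import Mathlib.Algebra.Module.LocalizedModule.Basic

/-!
# Depth of the localization of a ring at a prime, as a localized module
-/

set_option autoImplicit false
universe u

namespace K575

theorem depth_locSelf {R : Type u} [CommRing R] (p : Ideal R) [p.IsPrime] :
    LocCoh.depth (Localization.AtPrime p) (LocalizedModule p.primeCompl R) =
      LocCoh.depth (Localization.AtPrime p) (Localization.AtPrime p) :=
  Groth.Agent.Ega4B.DepthBasic.depth_congr
    (LinearEquiv.extendScalarsOfIsLocalization p.primeCompl (Localization p.primeCompl)
      (IsLocalizedModule.linearEquiv p.primeCompl (LocalizedModule.mkLinearMap p.primeCompl R)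
        (Algebra.linearMap R (Localization p.primeCompl))))

end K575
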