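import Groth.Agent.S1765
import Groth.Agent.FormalA.AnnDom
import Groth.Agent.Formal2.K575.DepthSelf

/-!
# A power of `f` kills the local cohomology of `A` in low degrees
-/

set_option autoImplicit false
universe u
open CategoryTheory
attribute [local instance] HasDerivedCategory.standard

namespace K575.AnnPow

open Groth.Agent

/-- If `depth A_p + dim (A/p)_q > s` for all primes `p` not containing `f` and all primes `q ⊇ p + 𝔞`, a power of `f`
kills `H^i_𝔞(A)` for `i ≤ s`. -/
theorem exists_pow (A : Type u) [CommRing A] [IsNoetherianRing A] (hω : ∃ ω : Dual.D A, Dual.IsDualizing A ω)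
    (𝔞 : Ideal A) (f : A) (hf : f ∈ 𝔞) (s : ℕ)
    (h₂ : ∀ (p : Ideal A) [p.IsPrime], f ∉ p → ∀ (q : Ideal A) [q.IsPrime], p ≤ q → 𝔞 ≤ q →
      ((s : ℕ) : WithBot ℕ∞) < ((LocCoh.depth (Localization.AtPrime p) (Localization.AtPrime p) : ℕ∞) : WithBot ℕ∞) +
        Formal2.dimBetween A p q) :
    ∃ n : ℕ, ∀ i : ℕ, i ≤ s → ∀ x : LocCoh.H 𝔞 i A, f ^ n • x = 0 := by
  let J : Ideal A :=
    { carrier := {a | ∀ i : ℕ, i ≤ s → ∀ x : LocCoh.H 𝔞 i A, a • x = 0}
      add_mem' := by
        intro a b ha hb i hi x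
        rw [add_smul, ha i hi x, hb i hi x, add_zero]
      zero_mem' := by
        intro i _ x
        rw [zero_smul]
      smul_mem' := by
        intro c a ha i hi x
        rw [smul_eq_mul, mul_smul, ha i hi x, smul_zero] }
  have h1 : f ∈ J.radical := by
    rw [Ideal.radical_eq_sInf, Submodule.mem_sInf]
    rintro p ⟨hJp, hp⟩
    by_contra hfp
    obtain ⟨g, hg, hg'⟩ := S1765.result A hω 𝔞 A ⟨p, hp⟩ (fun h => hfp (h hf)) s (fun p' q hp' hq hpq => by
      have hfp' : f ∉ p'.asIdeal := fun h => hfp (hp' h)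
      refine lt_of_lt_of_le (h₂ p'.asIdeal hfp' q.asIdeal hpq hq) ?_
      rw [depth_locSelf]
      exact add_le_add le_rfl (FormalA.AnnDom.dimBetween_le p' q))
    exact hg (hJp hg')
  obtain ⟨n, hn⟩ := h1
  exact ⟨n, hn⟩

end K575.AnnPow
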