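import Groth.Agent.FormalB.FormalLoc

/-!
# Coherent formal modules only depend on the closed subset

For ideals `I`, `J` of `A` whose powers dominate each other on `X`, the categories of coherent formal
modules for `I` and `J` are equivalent.
-/

set_option autoImplicit false
universe u

open CategoryTheory CategoryTheory.Limits AlgebraicGeometry Opposite TopologicalSpace

namespace K575.ChangeIdeal

open Groth.Agent.FormalB.ModPow Groth.Agent.FormalB.ModPowAff Groth.Agent.FormalB.FormalLoc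

variable {A : Type u} [CommRing A] {X : Scheme.{u}} [X.Over (Spec (CommRingCat.of A))]

variable (X) in
/-- `J' O_X ⊆ J O_X`, expressed by: every module killed by `J` is killed by `J'`. -/
def Dom (J' J : Ideal A) : Prop :=
  ∀ M : X.Modules, Formal.KilledBy J M → Formal.KilledBy J' M

theorem smul_comp_of_dom {J' J : Ideal A} (h : Dom X J' J) {M Z : X.Modules} (φ : M ⟶ Z)
    (hφ : ∀ a ∈ J, Formal.smulMod A M a ≫ φ = 0) : ∀ a ∈ J', Formal.smulMod A M a ≫ φ = 0 := by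
  have hk : Formal.KilledBy J (Abelian.image φ) := by
    intro a ha
    rw [← cancel_epi (Abelian.factorThruImage φ), ← smulMod_naturality, comp_zero,
      ← cancel_mono (Abelian.image.ι φ), Category.assoc, Abelian.image.fac, hφ a ha, zero_comp]
  intro a ha
  have h1 := h _ hk a ha
  have e := Abelian.image.fac φ
  rw [← e, ← Category.assoc, smulMod_naturality, h1, comp_zero, zero_comp]

/-- Transitivity: `M / J' M / J = M / J M` if `J' O_X ⊆ J O_X`. -/
theorem comp' {J J' : Ideal A} {M N P : X.Modules} {p : M ⟶ N} {q : N ⟶ P} (hp : IsModPow J' p)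
    (hq : IsModPow J q) (h : Dom X J' J) : IsModPow J (p ≫ q) := by
  have := hp.epi
  have := hq.epi
  refine ⟨inferInstance, fun a ha => ?_, ?_⟩
  · rw [smulMod_naturality_assoc, hq.smul_comp a ha, comp_zero]
  intro Z φ hφ
  obtain ⟨ψ, hψ⟩ := hp.desc φ (smul_comp_of_dom h φ hφ)
  obtain ⟨χ, hχ⟩ := hq.desc ψ (fun a ha => by
    rw [← cancel_epi p, ← smulMod_naturality_assoc, hψ, hφ a ha, comp_zero])
  exact ⟨χ, by rw [Category.assoc, hχ, hψ]⟩

section Functor

variable (J : Ideal A) (N : ℕ → ℕ) (hN : Monotone N)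

/-- The system `G_(N n) / J^(n+1) G_(N n)`. -/
noncomputable def PhiObj (G : ℕᵒᵖ ⥤ X.Modules) : ℕᵒᵖ ⥤ X.Modules where
  obj n := Formal.modPow J (n.unop + 1) (G.obj (op (N n.unop)))
  map {m n} h := Formal2.modPowLE J (Nat.succ_le_succ (leOfHom h.unop)) _ ≫
    modPowMap J (n.unop + 1) (G.map (homOfLE (hN (leOfHom h.unop))).op)
  map_id n := by
    rw [← cancel_epi (Formal.modPowπ J (n.unop + 1) _), ← Category.assoc,
      Formal2.modPowπ_modPowLE, modPowπ_modPowMap, Category.comp_id]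
    have : (homOfLE (hN (leOfHom (𝟙 n : n ⟶ n).unop))).op = 𝟙 (op (N n.unop)) := rfl
    rw [this, G.map_id, Category.id_comp]
  map_comp {a b c} f g := by
    rw [← cancel_epi (Formal.modPowπ J (a.unop + 1) _), ← Category.assoc,
      Formal2.modPowπ_modPowLE, modPowπ_modPowMap, Category.assoc, ← Category.assoc (Formal.modPowπ J _ _),
      Formal2.modPowπ_modPowLE, ← Category.assoc (Formal.modPowπ J _ _), modPowπ_modPowMap,
      Category.assoc, ← Category.assoc (Formal.modPowπ J _ _), Formal2.modPowπ_modPowLE,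
      modPowπ_modPowMap, ← Category.assoc, ← G.map_comp]
    rfl

/-- The projection `G_(N n) → G_(N n) / J^(n+1) G_(N n)`. -/
noncomputable def π (G : ℕᵒᵖ ⥤ X.Modules) (n : ℕᵒᵖ) :
    G.obj (op (N n.unop)) ⟶ (PhiObj J N hN G).obj n :=
  Formal.modPowπ J (n.unop + 1) (G.obj (op (N n.unop)))

theorem isModPow_π (G : ℕᵒᵖ ⥤ X.Modules) (n : ℕᵒᵖ) : IsModPow (J ^ (n.unop + 1)) (π J N hN G n) :=
  isModPow_modPowπ J (n.unop + 1) _

instance epi_π (G : ℕᵒᵖ ⥤ X.Modules) (n : ℕᵒᵖ) : Epi (π J N hN G n) := (isModPow_π J N hN G n).epi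

@[reassoc]
theorem π_map (G : ℕᵒᵖ ⥤ X.Modules) {m n : ℕᵒᵖ} (h : m ⟶ n) :
    π J N hN G m ≫ (PhiObj J N hN G).map h =
      G.map (homOfLE (hN (leOfHom h.unop))).op ≫ π J N hN G n := by
  have h1 : Formal.modPowπ J (m.unop + 1) (G.obj (op (N m.unop))) ≫
      (Formal2.modPowLE J (Nat.succ_le_succ (leOfHom h.unop)) _ ≫
        modPowMap J (n.unop + 1) (G.map (homOfLE (hN (leOfHom h.unop))).op)) =
      G.map (homOfLE (hN (leOfHom h.unop))).op ≫
        Formal.modPowπ J (n.unop + 1) (G.obj (op (N n.unop))) := by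
    rw [← Category.assoc, Formal2.modPowπ_modPowLE, modPowπ_modPowMap]
  exact h1

/-- component of the map induced by `α`. -/
noncomputable def mapApp {G H : ℕᵒᵖ ⥤ X.Modules} (α : G ⟶ H) (n : ℕᵒᵖ) :
    (PhiObj J N hN G).obj n ⟶ (PhiObj J N hN H).obj n :=
  modPowMap J (n.unop + 1) (α.app (op (N n.unop)))

@[reassoc]
theorem π_mapApp {G H : ℕᵒᵖ ⥤ X.Modules} (α : G ⟶ H) (n : ℕᵒᵖ) :
    π J N hN G n ≫ mapApp J N hN α n = α.app (op (N n.unop)) ≫ π J N hN H n :=
  modPowπ_modPowMap J (n.unop + 1) _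

/-- the map of systems induced by `α`. -/
noncomputable def mapNat {G H : ℕᵒᵖ ⥤ X.Modules} (α : G ⟶ H) :
    PhiObj J N hN G ⟶ PhiObj J N hN H where
  app := mapApp J N hN α
  naturality m n h := by
    rw [← cancel_epi (π J N hN G m), π_map_assoc, π_mapApp, π_mapApp_assoc, π_map,
      ← Category.assoc, ← Category.assoc, α.naturality]

/-- `PhiObj` is functorial. -/
noncomputable def Phi : (ℕᵒᵖ ⥤ X.Modules) ⥤ (ℕᵒᵖ ⥤ X.Modules) where
  obj := PhiObj J N hN
  map := mapNat J N hN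
  map_id G := by
    ext n : 2
    change mapApp J N hN (𝟙 G) n = 𝟙 _
    rw [← cancel_epi (π J N hN G n), π_mapApp, NatTrans.id_app, Category.id_comp, Category.comp_id]
  map_comp {G H K} α β := by
    ext n : 2
    change mapApp J N hN (α ≫ β) n = mapApp J N hN α n ≫ mapApp J N hN β n
    rw [← cancel_epi (π J N hN G n), π_mapApp, π_mapApp_assoc, π_mapApp, NatTrans.comp_app,
      Category.assoc]

theorem isFormal_PhiObj {I : Ideal A} {G : ℕᵒᵖ ⥤ X.Modules} (hG : IsFormal I G)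
    (hd : ∀ k, Dom X (I ^ (N k + 1)) (J ^ (k + 1))) : IsFormal J (PhiObj J N hN G) where
  killed n := (isModPow_π J N hN G (op n)).killedBy
  succ n := by
    have h1 : IsModPow (J ^ (n + 1)) (G.map (homOfLE (hN (Nat.le_succ n))).op ≫
        π J N hN G (op n)) :=
      comp' (hG.isModPow (hN (Nat.le_succ n))) (isModPow_π J N hN G (op n)) (hd n)
    have h2 := π_map J N hN G (homOfLE (Nat.le_succ n)).op
    have h3 : IsModPow (J ^ (n + 1)) (π J N hN G (op (n + 1)) ≫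
        (PhiObj J N hN G).map (homOfLE (Nat.le_succ n)).op) := by
      rw [h2]
      exact h1
    exact h3.of_comp

theorem isCohFormal_PhiObj {I : Ideal A} {G : ℕᵒᵖ ⥤ X.Modules} (hG : Formal.IsCohFormal I G)
    (hd : ∀ k, Dom X (I ^ (N k + 1)) (J ^ (k + 1))) : Formal.IsCohFormal J (PhiObj J N hN G) := by
  obtain ⟨h1, h2⟩ := (isCohFormal_iff I G).1 hG
  exact (isCohFormal_iff J _).2 ⟨fun n => isCoh_modPow J (n + 1) (h1 (N n)),
    isFormal_PhiObj J N hN h2 hd⟩

end Functor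

section Unit

variable (I J : Ideal A) (NJ NI : ℕ → ℕ) (hNJ : Monotone NJ) (hNI : Monotone NI)

/-- `G_(big) → (Ψ Φ G)_n`. -/
noncomputable def u (G : ℕᵒᵖ ⥤ X.Modules) (n : ℕᵒᵖ) :
    G.obj (op (NJ (NI n.unop))) ⟶ (PhiObj I NI hNI (PhiObj J NJ hNJ G)).obj n :=
  π J NJ hNJ G (op (NI n.unop)) ≫ π I NI hNI (PhiObj J NJ hNJ G) n

@[reassoc]
theorem u_map (G : ℕᵒᵖ ⥤ X.Modules) {m n : ℕᵒᵖ} (h : m ⟶ n) :
    u I J NJ NI hNJ hNI G m ≫ (PhiObj I NI hNI (PhiObj J NJ hNJ G)).map h =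
      G.map (homOfLE (hNJ (hNI (leOfHom h.unop)))).op ≫ u I J NJ NI hNJ hNI G n := by
  rw [u, Category.assoc, π_map, π_map_assoc, u]

@[reassoc]
theorem u_naturality {G H : ℕᵒᵖ ⥤ X.Modules} (α : G ⟶ H) (n : ℕᵒᵖ) :
    u I J NJ NI hNJ hNI G n ≫ mapApp I NI hNI (mapNat J NJ hNJ α) n =
      α.app _ ≫ u I J NJ NI hNJ hNI H n := by
  have h2 := π_mapApp J NJ hNJ α (op (NI n.unop))
  rw [u, Category.assoc, π_mapApp]
  change π J NJ hNJ G (op (NI n.unop)) ≫ mapApp J NJ hNJ α (op (NI n.unop)) ≫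
    π I NI hNI (PhiObj J NJ hNJ H) n = _
  rw [← Category.assoc, h2, Category.assoc]
  rfl

theorem isModPow_u (hd : ∀ k, Dom X (J ^ (NI k + 1)) (I ^ (k + 1))) (G : ℕᵒᵖ ⥤ X.Modules)
    (n : ℕᵒᵖ) : IsModPow (I ^ (n.unop + 1)) (u I J NJ NI hNJ hNI G n) :=
  comp' (isModPow_π J NJ hNJ G (op (NI n.unop))) (isModPow_π I NI hNI (PhiObj J NJ hNJ G) n)
    (hd n.unop)

theorem exists_counit (hd : ∀ k, Dom X (J ^ (NI k + 1)) (I ^ (k + 1))) (hle : ∀ k, k ≤ NJ (NI k))
    {G : ℕᵒᵖ ⥤ X.Modules} (hG : IsFormal I G) :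
    ∃ e : PhiObj I NI hNI (PhiObj J NJ hNJ G) ≅ G, ∀ n : ℕᵒᵖ,
      u I J NJ NI hNJ hNI G n ≫ e.hom.app n = G.map (homOfLE (hle n.unop)).op := by
  have h1 : ∀ n : ℕᵒᵖ, ∃ e : (PhiObj I NI hNI (PhiObj J NJ hNJ G)).obj n ≅ G.obj n,
      u I J NJ NI hNJ hNI G n ≫ e.hom = G.map (homOfLE (hle n.unop)).op := by
    intro n
    obtain ⟨e, he, -⟩ := (isModPow_u I J NJ NI hNJ hNI hd G n).exists_iso
      (hG.isModPow (hle n.unop))
    exact ⟨e, he⟩
  choose e he using h1
  refine ⟨NatIso.ofComponents e fun {m n} h => ?_, he⟩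
  have := (isModPow_u I J NJ NI hNJ hNI hd G m).epi
  rw [← cancel_epi (u I J NJ NI hNJ hNI G m), u_map_assoc, he, ← Category.assoc, he,
    ← G.map_comp, ← G.map_comp]
  rfl

/-- The functor `CohFormalCat I ⥤ CohFormalCat J`. -/
noncomputable def F (hd : ∀ k, Dom X (I ^ (NJ k + 1)) (J ^ (k + 1))) :
    Formal2.CohFormalCat I X ⥤ Formal2.CohFormalCat J X :=
  ObjectProperty.lift _ (ObjectProperty.ι _ ⋙ Phi J NJ hNJ)
    (fun G => isCohFormal_PhiObj J NJ hNJ G.property hd)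

theorem nonempty_counit (hd : ∀ k, Dom X (I ^ (NJ k + 1)) (J ^ (k + 1)))
    (hd' : ∀ k, Dom X (J ^ (NI k + 1)) (I ^ (k + 1))) (hle : ∀ k, k ≤ NJ (NI k)) :
    Nonempty (F I J NJ hNJ hd ⋙ F J I NI hNI hd' ≅ 𝟭 (Formal2.CohFormalCat I X)) := by
  have h1 : ∀ G : Formal2.CohFormalCat I X, ∃ e : PhiObj I NI hNI (PhiObj J NJ hNJ G.obj) ≅ G.obj,
      ∀ n : ℕᵒᵖ, u I J NJ NI hNJ hNI G.obj n ≫ e.hom.app n = G.obj.map (homOfLE (hle n.unop)).op :=
    fun G => exists_counit I J NJ NI hNJ hNI hd' hle ((isCohFormal_iff I G.obj).1 G.property).2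
  choose e he using h1
  let e' : ∀ G : Formal2.CohFormalCat I X, (F I J NJ hNJ hd ⋙ F J I NI hNI hd').obj G ≅ G :=
    fun G => ObjectProperty.isoMk _ (e G)
  refine ⟨NatIso.ofComponents e' fun {G H} α => ?_⟩
  apply ObjectProperty.hom_ext
  have key : mapNat I NI hNI (mapNat J NJ hNJ α.hom) ≫ (e H).hom = (e G).hom ≫ α.hom := ?_
  · exact key
  ext n : 2
  rw [NatTrans.comp_app, NatTrans.comp_app]
  change mapApp I NI hNI (mapNat J NJ hNJ α.hom) n ≫ (e H).hom.app n =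
    (e G).hom.app n ≫ α.hom.app n
  have := (isModPow_u I J NJ NI hNJ hNI hd' G.obj n).epi
  rw [← cancel_epi (u I J NJ NI hNJ hNI G.obj n), u_naturality_assoc, he, ← Category.assoc, he,
    α.hom.naturality]

include hNJ hNI in
theorem nonempty_equivalence (hd : ∀ k, Dom X (I ^ (NJ k + 1)) (J ^ (k + 1)))
    (hd' : ∀ k, Dom X (J ^ (NI k + 1)) (I ^ (k + 1))) (hle : ∀ k, k ≤ NJ (NI k))
    (hle' : ∀ k, k ≤ NI (NJ k)) :
    Nonempty (Formal2.CohFormalCat I X ≌ Formal2.CohFormalCat J X) := by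
  obtain ⟨e1⟩ := nonempty_counit I J NJ NI hNJ hNI hd hd' hle
  obtain ⟨e2⟩ := nonempty_counit J I NI NJ hNI hNJ hd' hd hle'
  exact ⟨CategoryTheory.Equivalence.mk (F I J NJ hNJ hd) (F J I NI hNI hd') e1.symm e2⟩

end Unit

section Noeth

theorem dom_of_cover {J' J : Ideal A}
    (h : ∀ x : X, ∃ U : X.Opens, x ∈ U ∧ ∀ a ∈ J', toΓ A X U a ∈ J.map (toΓ A X U)) :
    Dom X J' J := by
  intro M hM a ha
  ext W m
  change toΓ A X W a • m = 0
  let c : X → X.Opens := fun x => (h x).choose ⊓ W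
  have hc : W ≤ ⨆ x : X, c x := by
    intro x hx
    exact Opens.mem_iSup.2 ⟨x, (h x).choose_spec.1, hx⟩
  have hsh : TopCat.Presheaf.IsSheaf M.presheaf := M.isSheaf
  let S : TopCat.Sheaf Ab X := ⟨M.presheaf, hsh⟩
  refine TopCat.Sheaf.eq_of_locally_eq' S c W (fun x => homOfLE inf_le_right) hc _ _ fun x => ?_
  have h1 : M.presheaf.map (homOfLE (inf_le_right : (h x).choose ⊓ W ≤ W)).op (toΓ A X W a • m) =
      (X.presheaf.map (homOfLE (inf_le_right : (h x).choose ⊓ W ≤ W)).op (toΓ A X W a)) •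
        M.presheaf.map (homOfLE (inf_le_right : (h x).choose ⊓ W ≤ W)).op m := by
    exact M.map_smul _ _ _
  refine h1.trans ?_
  rw [map_zero]
  have hres : ∀ {U V : X.Opens} (i : V ≤ U) (b : A), X.presheaf.map (homOfLE i).op (toΓ A X U b) =
      toΓ A X V b := by
    intro U V i b
    exact (ConcreteCategory.congr_hom (X.presheaf.map_comp (homOfLE (le_top : U ≤ ⊤)).op
      (homOfLE i).op) (Coh.toGlobal (X ↘ Spec (CommRingCat.of A)) b)).symm
  rw [hres]
  apply smul_eq_zero_of_killedBy hM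
  have h2 := (h x).choose_spec.2 a ha
  have h3 := Ideal.mem_map_of_mem (X.presheaf.map (homOfLE (inf_le_left : (h x).choose ⊓ W ≤ (h x).choose)).op).hom h2
  rw [Ideal.map_map] at h3
  have h4 : ((X.presheaf.map (homOfLE (inf_le_left : (h x).choose ⊓ W ≤ (h x).choose)).op).hom.comp
      (toΓ A X (h x).choose)) = toΓ A X ((h x).choose ⊓ W) := by
    ext b
    exact hres _ b
  rw [h4] at h3
  have h5 : (X.presheaf.map (homOfLE (inf_le_left : (h x).choose ⊓ W ≤ (h x).choose)).op).hom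
      (toΓ A X (h x).choose a) = toΓ A X ((h x).choose ⊓ W) a := hres _ a
  rwa [h5] at h3

theorem fromSpec_comp {U : X.Opens} (hU : IsAffineOpen U) :
    hU.fromSpec ≫ (X ↘ Spec (CommRingCat.of A)) = Spec.map (CommRingCat.ofHom (toΓ A X U)) := by
  rw [← IsAffineOpen.SpecMap_appLE_fromSpec (X ↘ Spec (CommRingCat.of A))
    (isAffineOpen_top (Spec (CommRingCat.of A))) hU le_top]
  rw [IsAffineOpen.fromSpec_top, Scheme.isoSpec_Spec_inv, ← Spec.map_comp]
  rfl

/-- On an affine open, containment of the vanishing loci gives a power of the ideal. -/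
theorem exists_pow_le [IsLocallyNoetherian X] {I J : Ideal A}
    (hV : (fun x : X => (X ↘ Spec (CommRingCat.of A)) x) ⁻¹' PrimeSpectrum.zeroLocus (J : Set A) ⊆
      (fun x : X => (X ↘ Spec (CommRingCat.of A)) x) ⁻¹' PrimeSpectrum.zeroLocus (I : Set A))
    {U : X.Opens} (hU : IsAffineOpen U) :
    ∃ b : ℕ, (I.map (toΓ A X U)) ^ b ≤ J.map (toΓ A X U) := by
  have := isNoetherianRing_sections hU
  have h1 : I.map (toΓ A X U) ≤ (J.map (toΓ A X U)).radical := by
    rw [← PrimeSpectrum.zeroLocus_subset_zeroLocus_iff]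
    intro P hP
    have h2 : (hU.fromSpec ≫ (X ↘ Spec (CommRingCat.of A))) P =
        PrimeSpectrum.comap (toΓ A X U) P := by
      rw [fromSpec_comp hU]; rfl
    have h2' : (X ↘ Spec (CommRingCat.of A)) (hU.fromSpec P) =
        PrimeSpectrum.comap (toΓ A X U) P := (Scheme.Hom.comp_apply _ _ _).symm.trans h2
    have key : ∀ K : Ideal A, (hU.fromSpec P ∈ (fun x : X => (X ↘ Spec (CommRingCat.of A)) x) ⁻¹'
        PrimeSpectrum.zeroLocus (K : Set A)) ↔
        PrimeSpectrum.comap (toΓ A X U) P ∈ PrimeSpectrum.zeroLocus (K : Set A) := fun K =>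
      Iff.of_eq (congrArg (fun z : PrimeSpectrum A => z ∈ PrimeSpectrum.zeroLocus (K : Set A)) h2')
    have h3 := hV ((key J).2 (by
      rw [PrimeSpectrum.mem_zeroLocus]
      intro a ha
      exact hP (Ideal.mem_map_of_mem _ ha)))
    have h4 := (key I).1 h3
    rw [PrimeSpectrum.mem_zeroLocus] at h4
    rw [PrimeSpectrum.mem_zeroLocus, SetLike.coe_subset_coe, Ideal.map_le_iff_le_comap]
    exact h4
  exact Ideal.exists_pow_le_of_le_radical_of_fg_radical h1 (IsNoetherian.noetherian _)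

theorem exists_dom [IsNoetherian X] {I J : Ideal A}
    (hV : (fun x : X => (X ↘ Spec (CommRingCat.of A)) x) ⁻¹' PrimeSpectrum.zeroLocus (J : Set A) ⊆
      (fun x : X => (X ↘ Spec (CommRingCat.of A)) x) ⁻¹' PrimeSpectrum.zeroLocus (I : Set A)) :
    ∃ b : ℕ, ∀ n : ℕ, Dom X (I ^ (b * n)) (J ^ n) := by
  obtain ⟨b, hb⟩ := exists_uniform_cover (X := X)
    (fun U b => (I.map (toΓ A X U)) ^ b ≤ J.map (toΓ A X U))
    (fun U m n hmn h => (Ideal.pow_le_pow_right hmn).trans h) (fun U hU => exists_pow_le hV hU)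
  refine ⟨b, fun n => dom_of_cover fun x => ?_⟩
  obtain ⟨U, hx, -, h⟩ := hb x
  refine ⟨U, hx, fun a ha => ?_⟩
  have h1 := Ideal.mem_map_of_mem (toΓ A X U) ha
  rw [Ideal.map_pow, pow_mul] at h1
  rw [Ideal.map_pow]
  exact Ideal.pow_right_mono h n h1

/-- The category of coherent formal modules only depends on the closed subset. -/
theorem main [IsNoetherian X] {I J : Ideal A}
    (hV : (fun x : X => (X ↘ Spec (CommRingCat.of A)) x) ⁻¹' PrimeSpectrum.zeroLocus (I : Set A) =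
      (fun x : X => (X ↘ Spec (CommRingCat.of A)) x) ⁻¹' PrimeSpectrum.zeroLocus (J : Set A)) :
    Nonempty (Formal2.CohFormalCat I X ≌ Formal2.CohFormalCat J X) := by
  obtain ⟨b, hb⟩ := exists_dom (X := X) (I := I) (J := J) hV.symm.subset
  obtain ⟨c, hc⟩ := exists_dom (X := X) (I := J) (J := I) hV.subset
  have hd : ∀ k, Dom X (I ^ (b * (k + 1) + k + 1)) (J ^ (k + 1)) := fun k M hM =>
    killedBy_of_le (Ideal.pow_le_pow_right (by omega)) (hb (k + 1) M hM)
  have hd' : ∀ k, Dom X (J ^ (c * (k + 1) + k + 1)) (I ^ (k + 1)) := fun k M hM =>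
    killedBy_of_le (Ideal.pow_le_pow_right (by omega)) (hc (k + 1) M hM)
  exact nonempty_equivalence I J (fun k => b * (k + 1) + k) (fun k => c * (k + 1) + k)
    (fun m n h => Nat.add_le_add (Nat.mul_le_mul_left _ (Nat.succ_le_succ h)) h)
    (fun m n h => Nat.add_le_add (Nat.mul_le_mul_left _ (Nat.succ_le_succ h)) h) hd hd'
    (fun k => (Nat.le_add_left k _).trans (Nat.le_add_left _ _))
    (fun k => (Nat.le_add_left k _).trans (Nat.le_add_left _ _))

end Noeth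

end K575.ChangeIdeal
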