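import Groth.Agent.FormalA.FColim

/-!
# `Formal2.FormalCohColimBijective` in degree zero is equivalent to pointwise algebraization
-/

set_option autoImplicit false
universe u

open CategoryTheory TopologicalSpace Opposite AlgebraicGeometry

namespace K575.GoodConv

open LocalizedModule Groth.Agent.FormalA.LocSub Groth.Agent.FormalA.SecMod Groth.Agent.FormalA.NFam
  Groth.Agent.FormalA.GoodLoc Groth.Agent.FormalA.HVSec Groth.Agent.FormalA.FColim

variable {A : Type u} [CommRing A]

theorem exists_pow_smul' [IsNoetherianRing A] {M : Type u} [AddCommGroup M] [Module A M]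
    {V : Set (PrimeSpectrum A)} {J : Ideal A} (hV : V = D J) (y : sec M V) :
    ∃ k : ℕ, ∀ b ∈ J ^ k, ∃ m : M, b • y = Groth.Agent.FormalA.SecMod.ι M V m := by
  subst hV
  exact exists_pow_smul y

/-- A module killed by an element outside `p` has zero localization at `p`. -/
theorem eq_zero_of_pow {M : Type u} [AddCommGroup M] [Module A M] {I : Ideal A} {n : ℕ} (q : PrimeSpectrum A)
    (hq : ¬ I ≤ q.asIdeal) (x : LocalizedModule q.asIdeal.primeCompl (Q I M n)) : x = 0 := by
  obtain ⟨c, hc, hcq⟩ := SetLike.not_le_iff_exists.1 hq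
  have h1 : c ^ (n + 1) ∉ q.asIdeal := fun h => hcq (q.isPrime.mem_of_pow_mem _ h)
  obtain ⟨a, s, rfl⟩ := exists_eq_mk x
  obtain ⟨m, rfl⟩ := pr_surjective I n a
  refine smul_eq_zero_of_mem (S := q.asIdeal.primeCompl) h1 ?_
  rw [LocalizedModule.smul'_mk, ← map_smul]
  have h2 : pr I M n (c ^ (n + 1) • m) = 0 := by
    rw [pr_eq_zero_iff]
    exact Submodule.smul_mem_smul (Ideal.pow_mem_pow hc _) trivial
  rw [h2, LocalizedModule.zero_mk]

variable [IsNoetherianRing A] (I 𝔞 : Ideal A) (M : Type u) [AddCommGroup M] [Module A M]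

/-- The bijectivity statement in degree zero implies pointwise algebraization. -/
theorem good_of_colimBijective
    (h : Formal2.FormalCohColimBijective A I M 0 (LocCoh.puncturedOpen A 𝔞))
    (p : PrimeSpectrum A) (hp : I ≤ p.asIdeal) (hp' : ¬ 𝔞 ≤ p.asIdeal) : Good I 𝔞 p M := by
  intro y
  choose z hz using fun n => toG_surjective (Formal2.quotPow A I M n) (LocCoh.puncturedOpen A 𝔞)
    (show sec (Formal2.quotPow A I M n) (pts (LocCoh.puncturedOpen A 𝔞)) from y.at n)
  obtain ⟨V, hV, x, hx⟩ := h.2 z (fun n => by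
    refine toG_injective _ _ ?_
    rw [toG_map, hz, hz]
    have h2 : tr I M (Nat.le_succ n) = Formal2.quotPowTrans A I M n := hom_ext I fun x => rfl
    rw [← h2]
    exact y.compat' n)
  obtain ⟨J, hJ⟩ := (PrimeSpectrum.isClosed_iff_zeroLocus_ideal (pts V)ᶜ).1 V.2.isClosed_compl
  have hVJ : pts V = D J := by
    rw [D, ← hJ, compl_compl]
  obtain ⟨k, hk⟩ := exists_pow_smul' hVJ (toG M V x)
  have hpV : p ∈ V := hV.2 p hp' hp
  have hpJ : ¬ J ≤ p.asIdeal := by
    have : p ∈ D J := by rw [← hVJ]; exact hpV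
    exact this
  have h1 : ¬ J ^ k ≤ p.asIdeal := fun h2 => hpJ (p.isPrime.le_of_pow_le h2)
  obtain ⟨b, hb, hbp⟩ := SetLike.not_le_iff_exists.1 h1
  obtain ⟨m, hm⟩ := hk b hb
  refine ⟨b, hbp, m, F.ext fun n => ext_sec fun q => ?_⟩
  by_cases hqI : I ≤ q.1.asIdeal
  · have hqV : q.1 ∈ V := hV.2 q.1 q.2 hqI
    rw [F.at_smul, ιF_at]
    have h3 := congrArg (toG (Formal2.quotPow A I M n) V) (hx n)
    rw [toG_map] at h3
    have h4 := congrFun (congrArg Subtype.val h3) (⟨q.1, hqV⟩ : pts V)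
    rw [toG_res] at h4
    have h5 : (toG (Formal2.quotPow A I M n) (LocCoh.puncturedOpen A 𝔞) (z n)).1 ⟨q.1, hV.1 hqV⟩ = (y.at n).1 q := by
      rw [hz]; rfl
    have h6 := congrArg (map (pts V) (Formal2.quotPowπ A I M n)) hm
    rw [map_smul, map_ι] at h6
    have h7 := congrFun (congrArg Subtype.val h6) (⟨q.1, hqV⟩ : pts V)
    have h8 : (b • (y.at n).1 q : LocalizedModule q.1.asIdeal.primeCompl (Q I M n)) =
        mkLinearMap q.1.asIdeal.primeCompl (Q I M n) (pr I M n m) := by
      refine Eq.trans (congrArg (b • ·) (h5.symm.trans h4)) ?_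
      exact h7
    exact h8
  · exact (eq_zero_of_pow q.1 hqI _).trans (eq_zero_of_pow q.1 hqI _).symm

end K575.GoodConv
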