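import Groth.Agent.FormalB.FormalLoc
import Groth.Agent.FormalB.AdicAR

/-!
# `I^m F ∩ F[I^c] = 0` for `F` the limit of a coherent formal module
-/

set_option autoImplicit false
universe u v

open CategoryTheory CategoryTheory.Limits AlgebraicGeometry Opposite TopologicalSpace

namespace K575.KillTors

open Groth.Agent Groth.Agent.FormalB.ModPow Groth.Agent.FormalB.ModPowAff Groth.Agent.FormalB.FormalLoc
  Groth.Agent.FormalB.AdicSys

section Alg

variable {B : Type u} [CommRing B] {J : Ideal B}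
variable {M : ℕ → Type v} [∀ n, AddCommGroup (M n)] [∀ n, Module B (M n)] {t : ∀ n, M (n + 1) →ₗ[B] M n}

/-- finite powers of an adic system -/
theorem isAdicSys_pi (h : IsAdicSys J t) (l : ℕ) :
    IsAdicSys (M := fun n => Fin l → M n) J (fun n => (t n).compLeft (Fin l)) where
  finite n := by
    have := h.finite n
    infer_instance
  kill n a ha x := funext fun i => h.kill n a ha (x i)
  surj n y := ⟨fun i => (h.surj n (y i)).choose, funext fun i => (h.surj n (y i)).choose_spec⟩
  ker_le n x hx := by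
    have h1 : ∀ i, x i ∈ (J ^ (n + 1) • ⊤ : Submodule B (M (n + 1))) :=
      fun i => h.ker_le n (x i) (congrFun hx i)
    have h2 : x = ∑ i, Pi.single i (x i) := (Finset.univ_sum_single x).symm
    rw [h2]
    refine Submodule.sum_mem _ fun i _ => ?_
    have h4 := Submodule.mem_map_of_mem
      (f := LinearMap.single B (fun _ : Fin l => M (n + 1)) i) (h1 i)
    rw [Submodule.map_smul''] at h4
    exact Submodule.smul_mono le_rfl le_top h4

/-- Uniform vanishing of the elements killed by `J^c` and small. -/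
theorem exists_bound [IsNoetherianRing B] (h : IsAdicSys J t) {l : ℕ} (g : Fin l → B) (c : ℕ)
    (hg : J ^ c ≤ Ideal.span (Set.range g)) :
    ∃ k : ℕ, ∀ m (hkm : k ≤ m), k + k ≤ m → ∀ y : M m, (∀ i, g i • y = 0) →
      trans t hkm y = 0 → trans t (Nat.sub_le m k) y = 0 := by
  let α : ∀ n, M n →ₗ[B] (Fin l → M n) := fun n => LinearMap.pi fun i => LinearMap.lsmul B (M n) (g i)
  have hα : ∀ n x, (t n).compLeft (Fin l) (α (n + 1) x) = α n (t n x) := by
    intro n x
    funext i
    exact (t n).map_smul (g i) x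
  obtain ⟨d, h1, h2⟩ := h.exists_artin_rees_ker (isAdicSys_pi h l) α hα
  refine ⟨c + d, fun m hkm hm y hy hy' => ?_⟩
  obtain ⟨x, hx, hxy⟩ := h2 (m - (c + d)) m (Nat.sub_le _ _) (by omega) y (by
    funext i
    exact hy i)
  have h3 : x.1 (c + d) = 0 := by
    rw [← Lim.trans_compat x (show c + d ≤ m - (c + d) by omega), hxy, trans_trans]
    exact hy'
  have h4 := h1 c (c + d) le_rfl x hx h3
  have h5 : (J ^ (c + 1) • LinearMap.ker (limMap α hα) : Submodule B (Lim t)) ≤ ⊥ := by
    rw [Submodule.smul_le]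
    intro a ha z hz
    have h6 : a ∈ Ideal.span (Set.range g) := hg (Ideal.pow_le_pow_right (Nat.le_succ c) ha)
    have h7 : Ideal.span (Set.range g) ≤ LinearMap.ker (LinearMap.toSpanSingleton B (Lim t) z) := by
      rw [Ideal.span, Submodule.span_le]
      rintro _ ⟨i, rfl⟩
      refine LinearMap.mem_ker.2 (Lim.ext' fun n => ?_)
      exact congrArg (fun z : Lim (M := fun n => Fin l → M n) (fun n => (t n).compLeft (Fin l)) =>
        z.1 n i) (LinearMap.mem_ker.1 hz)
    exact (Submodule.mem_bot B).2 (LinearMap.mem_ker.1 (h7 h6))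
  have h6 : x = 0 := (Submodule.mem_bot B).1 (h5 h4)
  rw [← hxy, h6]
  rfl

end Alg

section Geo

variable {A : Type u} [CommRing A] {X : Scheme.{u}} [X.Over (Spec (CommRingCat.of A))]

/-- The subsheaf killed by finitely many scalars. -/
theorem exists_ann (M : X.Modules) (hM : Coh.IsQCoh M) (l : List A) :
    ∃ (T : X.Modules) (ι : T ⟶ M), Coh.IsQCoh T ∧ Mono ι ∧
      (∀ a ∈ l, ι ≫ Formal.smulMod A M a = 0) ∧
      ∀ {Z : X.Modules} (t : Z ⟶ M), (∀ a ∈ l, t ≫ Formal.smulMod A M a = 0) →
        ∃ t' : Z ⟶ T, t' ≫ ι = t := by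
  induction l with
  | nil => exact ⟨M, 𝟙 M, hM, inferInstance, by simp, fun t _ => ⟨t, Category.comp_id t⟩⟩
  | cons a l ih =>
    obtain ⟨T, ι, hT, hι, h1, h2⟩ := ih
    refine ⟨kernel (ι ≫ Formal.smulMod A M a), kernel.ι _ ≫ ι,
      PerfA.QCohSerre.isQCoh_kernel _ hT hM, mono_comp _ _, ?_, ?_⟩
    · intro b hb
      rcases List.mem_cons.1 hb with rfl | hb
      · rw [Category.assoc, kernel.condition]
      · rw [Category.assoc, h1 b hb, comp_zero]
    · intro Z t ht
      obtain ⟨t', rfl⟩ := h2 t (fun b hb => ht b (List.mem_cons_of_mem _ hb))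
      have h3 : t' ≫ ι ≫ Formal.smulMod A M a = 0 := by
        rw [← Category.assoc]
        exact ht a List.mem_cons_self
      exact ⟨kernel.lift _ t' h3, by rw [← Category.assoc, kernel.lift_ι]⟩

/-- Let `F = lim G` for a coherent formal module `G`. There is `k` such that a map to `F` killed by
`I^c` and zero in `G_k` is zero. -/
theorem eq_zero_of_killed [IsNoetherianRing A] [IsNoetherian X] {I : Ideal A} {G : ℕᵒᵖ ⥤ X.Modules}
    (hG : Formal.IsCohFormal I G) (c : ℕ) :
    ∃ k : ℕ, ∀ {Z : X.Modules} (t : Z ⟶ limit G),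
      (∀ a ∈ I ^ c, t ≫ Formal.smulMod A (limit G) a = 0) → t ≫ limit.π G (op k) = 0 → t = 0 := by
  obtain ⟨l, g, hg⟩ := Submodule.fg_iff_exists_fin_generating_family.mp
    (IsNoetherian.noetherian (I ^ c))
  have hg' : Ideal.span (Set.range g) = I ^ c := hg
  have hgm : ∀ j, g j ∈ I ^ c := fun j => hg' ▸ Ideal.subset_span ⟨j, rfl⟩
  obtain ⟨k, hk⟩ := exists_uniform_cover (X := X)
    (fun U k => ∀ m (hkm : k ≤ m), k + k ≤ m → ∀ y : Γ(G.obj (op m), U),
      (∀ i, toΓ A X U (g i) • y = 0) → (G.map (homOfLE hkm).op).app U y = 0 →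
        (G.map (homOfLE (Nat.sub_le m k)).op).app U y = 0)
    (fun U k k' hkk' H m hkm hm y hy hy' => by
      have h1 : (G.map (homOfLE (hkk'.trans hkm)).op).app U y = 0 := by
        rw [map_homOfLE_comp G hkk' hkm]
        change (G.map (homOfLE hkk').op).app U ((G.map (homOfLE hkm).op).app U y) = 0
        rw [hy', map_zero]
      have h2 := H m (hkk'.trans hkm) (by omega) y hy h1
      rw [map_homOfLE_comp G (show m - k' ≤ m - k by omega) (Nat.sub_le m k)]
      change (G.map (homOfLE _).op).app U ((G.map (homOfLE (Nat.sub_le m k)).op).app U y) = 0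
      rw [h2, map_zero])
    (fun U hU => by
      have := isNoetherianRing_sections hU
      have hs := isAdicSys_sections hG hU
      obtain ⟨k, hk⟩ := exists_bound hs (fun i => toΓ A X U (g i)) c (by
        rw [← Ideal.map_pow, ← hg', Ideal.map_span, ← Set.range_comp]
        rfl)
      refine ⟨k, fun m hkm hm y hy hy' => ?_⟩
      have h1 := hk m hkm hm y hy ((trans_secT G U hkm y).trans hy')
      exact (trans_secT G U (Nat.sub_le m k) y).symm.trans h1)
  refine ⟨k, fun {Z} t ht hk0 => ?_⟩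
  have key : ∀ m (hkm : k ≤ m), k + k ≤ m → t ≫ limit.π G (op (m - k)) = 0 := by
    intro m hkm hm
    have hcoh := hG.1
    obtain ⟨T, ι, hT, hι, h1, h2⟩ := exists_ann (kernel (G.map (homOfLE hkm).op))
      (PerfA.QCohSerre.isQCoh_kernel _ (hcoh m).1 (hcoh k).1) (List.ofFn g)
    have h3 : ι ≫ kernel.ι _ ≫ G.map (homOfLE (Nat.sub_le m k)).op = 0 := by
      refine eq_zero_of_cover hT (hcoh _).1 _ fun x => ?_
      obtain ⟨U, hx, hU, hP⟩ := hk x
      refine ⟨U, hx, hU, fun s => ?_⟩
      refine hP m hkm hm ((kernel.ι (G.map (homOfLE hkm).op)).app U (ι.app U s)) (fun i => ?_) ?_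
      · have h4 : ι ≫ kernel.ι (G.map (homOfLE hkm).op) ≫ Formal.smulMod A (G.obj (op m)) (g i) = 0 := by
          rw [← smulMod_naturality, ← Category.assoc, h1 (g i) (List.mem_ofFn.2 ⟨i, rfl⟩), zero_comp]
        exact congr(($h4).app U s)
      · have h4 : ι ≫ kernel.ι (G.map (homOfLE hkm).op) ≫ G.map (homOfLE hkm).op = 0 := by
          rw [kernel.condition, comp_zero]
        exact congr(($h4).app U s)
    have hw : ∀ {a b : ℕ} (h : a ≤ b), limit.π G (op b) ≫ G.map (homOfLE h).op = limit.π G (op a) :=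
      fun h => limit.w G (homOfLE h).op
    have h4 : (t ≫ limit.π G (op m)) ≫ G.map (homOfLE hkm).op = 0 := by
      rw [Category.assoc, hw, hk0]
    obtain ⟨t', ht'⟩ := h2 (kernel.lift _ _ h4) (fun a ha => by
      obtain ⟨i, rfl⟩ := List.mem_ofFn.1 ha
      rw [← cancel_mono (kernel.ι _), Category.assoc, smulMod_naturality, kernel.lift_ι_assoc,
        zero_comp, Category.assoc, ← smulMod_naturality, ← Category.assoc, ht _ (hgm i), zero_comp])
    have h5 : t' ≫ ι ≫ kernel.ι _ = t ≫ limit.π G (op m) := by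
      rw [← Category.assoc, ht', kernel.lift_ι]
    rw [← hw (Nat.sub_le m k), ← Category.assoc, ← h5, Category.assoc, Category.assoc, h3, comp_zero]
  apply limit.hom_ext
  rintro ⟨n⟩
  have hw : ∀ {a b : ℕ} (h : a ≤ b), limit.π G (op b) ≫ G.map (homOfLE h).op = limit.π G (op a) :=
    fun h => limit.w G (homOfLE h).op
  have h1 := key (n + k + k) (by omega) (by omega)
  have e : n + k + k - k = n + k := by omega
  rw [e] at h1
  rw [zero_comp, ← hw (Nat.le_add_right n k), ← Category.assoc, h1, zero_comp]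

end Geo

end K575.KillTors
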