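import Mathlib.Algebra.MvPolynomial.Basic
import Mathlib.Algebra.MvPolynomial.Eval
import Mathlib.RingTheory.MvPolynomial.Homogeneous
import Mathlib.RingTheory.Noetherian.Basic
import Mathlib.Data.Fin.Tuple.NatAntidiagonal

/-!
# Graded algebra maps `⊕ I^(n c') → A[T_1, …, T_r]` and modules
-/

set_option autoImplicit false
universe u v

open scoped BigOperators

namespace K575.PhiAlg

open MvPolynomial

variable {A : Type u} [CommRing A] {r : ℕ} {I : Ideal A} {c c' m : ℕ}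

/-- The conditions on `Φ`. -/
structure Cond (I : Ideal A) (c : ℕ) (φ : Fin r → (↥(I ^ c) →ₗ[A] A)) (c' : ℕ) (hcc' : c ≤ c')
    (Φ : ℕ → A → MvPolynomial (Fin r) A) : Prop where
  add : ∀ n : ℕ, ∀ g ∈ I ^ (n * c'), ∀ h ∈ I ^ (n * c'), Φ n (g + h) = Φ n g + Φ n h
  smul : ∀ (n : ℕ) (a : A), ∀ g ∈ I ^ (n * c'), Φ n (a * g) = a • Φ n g
  hom : ∀ n : ℕ, ∀ g ∈ I ^ (n * c'), (Φ n g).IsHomogeneous n
  mul : ∀ n m : ℕ, ∀ g ∈ I ^ (n * c'), ∀ h ∈ I ^ (m * c'), Φ (n + m) (g * h) = Φ n g * Φ m h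
  zero : ∀ a : A, Φ 0 a = MvPolynomial.C a
  one : ∀ (g : A) (hg : g ∈ I ^ c'), Φ 1 g =
    ∑ j, MvPolynomial.C (φ j ⟨g, Ideal.pow_le_pow_right hcc' hg⟩) * MvPolynomial.X j

section First

variable (φ : (↥(I ^ c) →ₗ[A] A))

theorem φ_mul (a : A) (ha : a ∈ I ^ c) (g : A) (hg : g ∈ I ^ c) :
    a * φ ⟨g, hg⟩ = g * φ ⟨a, ha⟩ := by
  rw [← smul_eq_mul, ← smul_eq_mul, ← map_smul, ← map_smul]
  congr 1
  ext
  exact mul_comm a g

theorem φ_mem (hc' : c' = c + m) (hcc' : c ≤ c') (g : A) (hg : g ∈ I ^ c') :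
    φ ⟨g, Ideal.pow_le_pow_right hcc' hg⟩ ∈ I ^ m := by
  have h1 : (⟨g, Ideal.pow_le_pow_right hcc' hg⟩ : ↥(I ^ c)) ∈ (I ^ m • ⊤ : Submodule A ↥(I ^ c)) := by
    rw [Submodule.mem_smul_top_iff]
    change g ∈ I ^ m * I ^ c
    rw [← pow_add, add_comm, ← hc']
    exact hg
  have h2 := Submodule.mem_map_of_mem (f := φ) h1
  rw [Submodule.map_smul''] at h2
  have h3 : (I ^ m • Submodule.map φ ⊤ : Submodule A A) ≤ I ^ m • ⊤ := Submodule.smul_mono le_rfl le_top
  have h4 := h3 h2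
  rwa [smul_eq_mul, Ideal.mul_top] at h4

variable {M : Type v} [AddCommGroup M] [Module A M]

/-- well-definedness in degree one. -/
theorem claim1 (hM : ∀ t : M, (∀ a ∈ I ^ c, a • t = 0) → t ∈ (I ^ m • ⊤ : Submodule A M) → t = 0)
    (hc' : c' = c + m) (hcc' : c ≤ c') {ι : Type} [Fintype ι] (g : ι → A)
    (hg : ∀ i, g i ∈ I ^ c') (s : ι → M) (hs : ∑ i, g i • s i = 0) :
    ∑ i, φ ⟨g i, Ideal.pow_le_pow_right hcc' (hg i)⟩ • s i = 0 := by
  refine hM _ (fun a ha => ?_) ?_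
  · rw [Finset.smul_sum]
    have h1 : ∀ i, a • φ ⟨g i, Ideal.pow_le_pow_right hcc' (hg i)⟩ • s i = φ ⟨a, ha⟩ • g i • s i := by
      intro i
      rw [smul_smul, φ_mul φ a ha, mul_comm, mul_smul]
    simp_rw [h1]
    rw [← Finset.smul_sum, hs, smul_zero]
  · exact Submodule.sum_mem _ fun i _ => Submodule.smul_mem_smul (φ_mem φ hc' hcc' _ (hg i)) trivial

end First

section General

variable {φ : Fin r → (↥(I ^ c) →ₗ[A] A)} {hcc' : c ≤ c'} {Φ : ℕ → A → MvPolynomial (Fin r) A}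
  (h : Cond I c φ c' hcc' Φ)

include h

/-- `Φ n` on `I^(n c')` as a linear map. -/
noncomputable def Cond.lin (n : ℕ) : ↥(I ^ (n * c')) →ₗ[A] MvPolynomial (Fin r) A where
  toFun g := Φ n g
  map_add' g h' := h.add n _ g.2 _ h'.2
  map_smul' a g := h.smul n a _ g.2

theorem Cond.map_sum (n : ℕ) {κ : Type} [Fintype κ] (g : κ → A) (hg : ∀ k, g k ∈ I ^ (n * c')) :
    Φ n (∑ k, g k) = ∑ k, Φ n (g k) := by
  have h1 := _root_.map_sum (h.lin n) (fun k => (⟨g k, hg k⟩ : ↥(I ^ (n * c')))) Finset.univ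
  have h2 : h.lin n (∑ k, (⟨g k, hg k⟩ : ↥(I ^ (n * c')))) = Φ n (∑ k, g k) := by
    change Φ n ((∑ k, (⟨g k, hg k⟩ : ↥(I ^ (n * c'))) : ↥(I ^ (n * c'))) : A) = _
    rw [AddSubmonoidClass.coe_finsetSum]
  rw [← h2, h1]
  rfl

omit h in
/-- Expansion of elements of `I^((n+1)c')`. -/
theorem exists_expand {n : ℕ} {κ : Type} [Fintype κ] (b : κ → A)
    (hb : Ideal.span (Set.range b) = I ^ (n * c')) (g : A) (hg : g ∈ I ^ ((n + 1) * c')) :
    ∃ a : κ → A, (∀ k, a k ∈ I ^ c') ∧ ∑ k, a k * b k = g := by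
  have h1 : g ∈ (I ^ c' • Submodule.span A (Set.range b) : Submodule A A) := by
    have h2 : (Submodule.span A (Set.range b)) = I ^ (n * c') := hb
    rw [h2, smul_eq_mul, ← pow_add]
    have e : c' + n * c' = (n + 1) * c' := by ring
    rw [e]
    exact hg
  rw [Submodule.mem_ideal_smul_span_iff_exists_sum] at h1
  obtain ⟨a, ha, hag⟩ := h1
  refine ⟨a, ha, ?_⟩
  rw [← hag, Finsupp.sum_fintype _ _ (fun i => by simp)]
  rfl

theorem Cond.succ (n : ℕ) {κ : Type} [Fintype κ] (a b : κ → A) (ha : ∀ k, a k ∈ I ^ c')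
    (hb : ∀ k, b k ∈ I ^ (n * c')) :
    Φ (n + 1) (∑ k, a k * b k) = ∑ k, Φ 1 (a k) * Φ n (b k) := by
  have e : c' + n * c' = (n + 1) * c' := by ring
  rw [h.map_sum (n + 1) _ (fun k => by
    rw [← e, pow_add]
    exact Ideal.mul_mem_mul (ha k) (hb k))]
  refine Finset.sum_congr rfl fun k _ => ?_
  have h1 := h.mul 1 n (a k) (by rw [one_mul]; exact ha k) (b k) (hb k)
  rw [← h1, Nat.add_comm]

theorem Cond.coeff_succ (n : ℕ) (a b : A) (ha : a ∈ I ^ c') (e : Fin r →₀ ℕ) :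
    coeff e (Φ 1 a * Φ n b) = ∑ j, φ j ⟨a, Ideal.pow_le_pow_right hcc' ha⟩ *
      coeff e (X j * Φ n b) := by
  rw [h.one a ha, Finset.sum_mul, coeff_sum]
  refine Finset.sum_congr rfl fun j _ => ?_
  rw [mul_assoc, coeff_C_mul]

variable {M : Type v} [AddCommGroup M] [Module A M] [IsNoetherianRing A]

/-- well-definedness in all degrees. -/
theorem Cond.claim
    (hM : ∀ t : M, (∀ a ∈ I ^ c, a • t = 0) → t ∈ (I ^ m • ⊤ : Submodule A M) → t = 0)
    (hc' : c' = c + m) (n : ℕ) : ∀ {ι : Type} [Fintype ι] (g : ι → A)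
    (_ : ∀ i, g i ∈ I ^ (n * c')) (s : ι → M), ∑ i, g i • s i = 0 →
      ∀ e, ∑ i, coeff e (Φ n (g i)) • s i = 0 := by
  induction n with
  | zero =>
    intro ι _ g hg s hs e
    simp only [h.zero, coeff_C]
    split_ifs
    · exact hs
    · simp
  | succ n ih =>
    intro ι _ g hg s hs e
    obtain ⟨N, b, hb⟩ := Submodule.fg_iff_exists_fin_generating_family.mp
      (IsNoetherian.noetherian (I ^ (n * c')))
    have hb' : Ideal.span (Set.range b) = I ^ (n * c') := hb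
    have hbm : ∀ k, b k ∈ I ^ (n * c') := fun k => hb' ▸ Ideal.subset_span ⟨k, rfl⟩
    choose a ha hag using fun i => exists_expand (c' := c') (n := n) b hb' (g i) (hg i)
    -- the reduction
    have h1 : ∀ i, coeff e (Φ (n + 1) (g i)) = ∑ j, φ j ⟨∑ k, coeff e (X j * Φ n (b k)) * a i k,
        Submodule.sum_mem _ fun k _ => Ideal.mul_mem_left _ _ (Ideal.pow_le_pow_right hcc' (ha i k))⟩ := by
      intro i
      rw [← hag i, h.succ n (a i) b (ha i) hbm, coeff_sum]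
      simp_rw [fun k => h.coeff_succ n (a i k) (b k) (ha i k) e]
      rw [Finset.sum_comm]
      refine Finset.sum_congr rfl fun j _ => ?_
      have h2 : (⟨∑ k, coeff e (X j * Φ n (b k)) * a i k,
          Submodule.sum_mem _ fun k _ => Ideal.mul_mem_left _ _
            (Ideal.pow_le_pow_right hcc' (ha i k))⟩ : ↥(I ^ c)) =
          ∑ k, coeff e (X j * Φ n (b k)) • (⟨a i k, Ideal.pow_le_pow_right hcc' (ha i k)⟩ : ↥(I ^ c)) := by
        ext
        rw [AddSubmonoidClass.coe_finsetSum]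
        rfl
      rw [h2, _root_.map_sum]
      refine Finset.sum_congr rfl fun k _ => ?_
      rw [map_smul, smul_eq_mul, mul_comm]
    have h3 : ∑ i, coeff e (Φ (n + 1) (g i)) • s i = ∑ j, ∑ i,
        φ j ⟨∑ k, coeff e (X j * Φ n (b k)) * a i k,
        Submodule.sum_mem _ fun k _ => Ideal.mul_mem_left _ _
          (Ideal.pow_le_pow_right hcc' (ha i k))⟩ • s i := by
      rw [Finset.sum_comm]
      refine Finset.sum_congr rfl fun i _ => ?_
      rw [h1, Finset.sum_smul]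
    rw [h3]
    refine Finset.sum_eq_zero fun j _ => ?_
    refine claim1 (φ j) hM hc' hcc' (fun i => ∑ k, coeff e (X j * Φ n (b k)) * a i k)
      (fun i => Submodule.sum_mem _ fun k _ => Ideal.mul_mem_left _ _ (ha i k)) s ?_
    have h4 : ∑ i, (∑ k, coeff e (X j * Φ n (b k)) * a i k) • s i =
        ∑ k, coeff e (X j * Φ n (b k)) • ∑ i, a i k • s i := by
      simp_rw [Finset.sum_smul, Finset.smul_sum, mul_smul]
      rw [Finset.sum_comm]
    rw [h4]
    have h5 : ∑ k, b k • ∑ i, a i k • s i = 0 := by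
      simp_rw [Finset.smul_sum]
      rw [Finset.sum_comm, ← hs]
      refine Finset.sum_congr rfl fun i _ => ?_
      rw [← hag i, Finset.sum_smul]
      refine Finset.sum_congr rfl fun k _ => ?_
      rw [smul_smul, mul_comm]
    have h6 := ih b hbm (fun k => ∑ i, a i k • s i) h5
    simp_rw [coeff_X_mul']
    split_ifs
    · exact h6 _
    · simp

omit [AddCommGroup M] [Module A M] in
theorem Cond.eval (f : Fin r → A) (hφ : ∀ x : ↥(I ^ c), (x : A) = ∑ j, f j * φ j x) (n : ℕ) :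
    ∀ g ∈ I ^ (n * c'), MvPolynomial.eval f (Φ n g) = g := by
  induction n with
  | zero =>
    intro g _
    rw [h.zero, eval_C]
  | succ n ih =>
    intro g hg
    obtain ⟨N, b, hb⟩ := Submodule.fg_iff_exists_fin_generating_family.mp
      (IsNoetherian.noetherian (I ^ (n * c')))
    have hb' : Ideal.span (Set.range b) = I ^ (n * c') := hb
    have hbm : ∀ k, b k ∈ I ^ (n * c') := fun k => hb' ▸ Ideal.subset_span ⟨k, rfl⟩
    obtain ⟨a, ha, hag⟩ := exists_expand (c' := c') (n := n) b hb' g hg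
    rw [← hag, h.succ n a b ha hbm, _root_.map_sum]
    refine Finset.sum_congr rfl fun k _ => ?_
    rw [_root_.map_mul, ih _ (hbm k), h.one _ (ha k), _root_.map_sum]
    congr 1
    have h1 := hφ ⟨a k, Ideal.pow_le_pow_right hcc' (ha k)⟩
    refine Eq.trans (Finset.sum_congr rfl fun j _ => ?_) h1.symm
    rw [_root_.map_mul, eval_C, eval_X, mul_comm]

omit [AddCommGroup M] [Module A M] in
/-- The sum over the exponents of total degree `n`. -/
theorem Cond.sum_coeff (f : Fin r → A) (hφ : ∀ x : ↥(I ^ c), (x : A) = ∑ j, f j * φ j x) (n : ℕ)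
    (g : A) (hg : g ∈ I ^ (n * c')) :
    ∑ e : ↥(Finset.Nat.antidiagonalTuple r n),
      coeff (Finsupp.equivFunOnFinite.symm e.1) (Φ n g) * ∏ j, f j ^ (e.1 j) = g := by
  have h1 := h.eval f hφ n g hg
  rw [eval_eq'] at h1
  have h2 : (Φ n g).support ⊆ (Finset.Nat.antidiagonalTuple r n).map
      Finsupp.equivFunOnFinite.symm.toEmbedding := by
    intro d hd
    rw [Finset.mem_map]
    refine ⟨Finsupp.equivFunOnFinite d, ?_, by simp⟩
    rw [Finset.Nat.mem_antidiagonalTuple]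
    have h3 := h.hom n g hg (mem_support_iff.1 hd)
    rw [Finsupp.weight_apply, Finsupp.sum_fintype _ _ (fun i => by simp)] at h3
    simpa using h3
  rw [Finset.sum_subset h2 (fun d _ hd => by rw [notMem_support_iff.1 hd, zero_mul]),
    Finset.sum_map] at h1
  rw [Finset.sum_coe_sort (Finset.Nat.antidiagonalTuple r n)
    (fun e => coeff (Finsupp.equivFunOnFinite.symm e) (Φ n g) * ∏ j, f j ^ (e j))]
  exact h1

end General

end K575.PhiAlg
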