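import Groth.Agent.Formal2.K575.PhiAlg
import Groth.Agent.FormalB.ModPow

/-!
# The maps `I^(n c') F → F[T_1, …, T_r]_n`
-/

set_option autoImplicit false
universe u v

open scoped BigOperators
attribute [local instance] CategoryTheory.Abelian.hasFiniteBiproducts

open CategoryTheory CategoryTheory.Limits AlgebraicGeometry Opposite

namespace K575.PhiShf

open Groth.Agent.FormalB.ModPow K575.PhiAlg

variable {A : Type u} [CommRing A] {X : Scheme.{u}} [X.Over (Spec (CommRingCat.of A))]

/-- The `A`-module structure on morphisms. -/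
@[reducible] noncomputable def homModule (A : Type u) [CommRing A] {X : Scheme.{u}}
    [X.Over (Spec (CommRingCat.of A))] (Z F : X.Modules) : Module A (Z ⟶ F) where
  smul a t := t ≫ Formal.smulMod A F a
  one_smul t := by
    change t ≫ Formal.smulMod A F 1 = t
    rw [smulMod_one, Category.comp_id]
  mul_smul a b t := by
    change t ≫ Formal.smulMod A F (a * b) = (t ≫ Formal.smulMod A F b) ≫ Formal.smulMod A F a
    rw [smulMod_mul, Category.assoc]
  smul_zero a := zero_comp
  smul_add a s t := Preadditive.add_comp _ _ _ _ _ _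
  add_smul a b t := by
    change t ≫ Formal.smulMod A F (a + b) = t ≫ Formal.smulMod A F a + t ≫ Formal.smulMod A F b
    rw [smulMod_add, Preadditive.comp_add]
  zero_smul t := by
    change t ≫ Formal.smulMod A F 0 = 0
    rw [smulMod_zero, comp_zero]

theorem smulMod_sum {κ : Type} [Fintype κ] (F : X.Modules) (a : κ → A) :
    Formal.smulMod A F (∑ k, a k) = ∑ k, Formal.smulMod A F (a k) := by
  classical
  refine Finset.induction_on (Finset.univ : Finset κ) ?_ fun k s hk ih => ?_
  · rw [Finset.sum_empty, Finset.sum_empty, smulMod_zero]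
  · rw [Finset.sum_insert hk, Finset.sum_insert hk, smulMod_add, ih]

section Gens

variable {N : ℕ} (b : Fin N → A) (F : X.Modules)

/-- `(s_k) ↦ Σ b_k s_k`. -/
noncomputable def mulMap : (⨁ fun _ : Fin N => F) ⟶ F :=
  biproduct.desc fun k => Formal.smulMod A F (b k)

variable {I : Ideal A} {k : ℕ} (hb : Ideal.span (Set.range b) = I ^ k)

include hb

theorem mem_of_gens (i : Fin N) : b i ∈ I ^ k := hb ▸ Ideal.subset_span ⟨i, rfl⟩

theorem mulMap_modPowπ : mulMap b F ≫ Formal.modPowπ I k F = 0 := by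
  apply biproduct.hom_ext'
  intro i
  rw [mulMap, biproduct.ι_desc_assoc, comp_zero]
  exact (isModPow_modPowπ I k F).smul_comp _ (mem_of_gens b hb i)

theorem smul_comp_eq_zero {Z : X.Modules} (φ : F ⟶ Z) (hφ : mulMap b F ≫ φ = 0) :
    ∀ a ∈ I ^ k, Formal.smulMod A F a ≫ φ = 0 := by
  have h1 : ∀ i, Formal.smulMod A F (b i) ≫ φ = 0 := by
    intro i
    have h2 := congrArg (fun t => biproduct.ι (fun _ : Fin N => F) i ≫ t) hφ
    simpa [mulMap] using h2
  intro a ha
  rw [← hb] at ha
  induction ha using Submodule.span_induction with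
  | mem x hx =>
    obtain ⟨i, rfl⟩ := hx
    exact h1 i
  | zero => rw [smulMod_zero, zero_comp]
  | add x y _ _ hx hy => rw [smulMod_add, Preadditive.add_comp, hx, hy, add_zero]
  | smul a x _ hx =>
    rw [smul_eq_mul, mul_comm, smulMod_mul, Category.assoc, hx, comp_zero]

theorem exact_mulMap : (ShortComplex.mk (mulMap b F) (Formal.modPowπ I k F)
    (mulMap_modPowπ b F hb)).Exact := by
  have key : ∀ {Z : X.Modules} (φ : F ⟶ Z), mulMap b F ≫ φ = 0 →
      ∃ ψ, Formal.modPowπ I k F ≫ ψ = φ :=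
    fun φ hφ => (isModPow_modPowπ I k F).desc φ (smul_comp_eq_zero b F hb φ hφ)
  apply ShortComplex.exact_of_g_is_cokernel
  exact CokernelCofork.IsColimit.ofπ _ _ (fun {Z} φ hφ => (key φ hφ).choose)
    (fun {Z} φ hφ => (key φ hφ).choose_spec)
    (fun {Z} φ hφ m hm => (cancel_epi (Formal.modPowπ I k F)).1 (hm.trans (key φ hφ).choose_spec.symm))

/-- The epimorphism `⨁ F → I^k F`. -/
noncomputable def toIdealPow : (⨁ fun _ : Fin N => F) ⟶ Formal2.idealPowMod I k F :=
  kernel.lift _ (mulMap b F) (mulMap_modPowπ b F hb)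

theorem toIdealPow_ι : toIdealPow b F hb ≫ Formal2.idealPowModι I k F = mulMap b F :=
  kernel.lift_ι _ _ _

theorem epi_toIdealPow : Epi (toIdealPow b F hb) := (exact_mulMap b F hb).epi_kernelLift

end Gens

open MvPolynomial in
/-- Existence and uniqueness of `Φ_F`. -/
theorem main [IsNoetherianRing A] {r : ℕ} {I : Ideal A} {c c' m : ℕ}
    {φ : Fin r → (↥(I ^ c) →ₗ[A] A)} {hcc' : c ≤ c'} {Φ : ℕ → A → MvPolynomial (Fin r) A}
    (h : Cond I c φ c' hcc' Φ) (f : Fin r → A)
    (hφ : ∀ x : ↥(I ^ c), (x : A) = ∑ j, f j * φ j x) (hc' : c' = c + m) (F : X.Modules)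
    (hF : ∀ {Z : X.Modules} (t : Z ⟶ F), (∀ a ∈ I ^ c, t ≫ Formal.smulMod A F a = 0) →
      t ≫ Formal.modPowπ I m F = 0 → t = 0) (n : ℕ) :
    ∃ ΦF : (Formal2.idealPowMod I (n * c') F) ⟶
        ⨁ (fun _ : ↥(Finset.Nat.antidiagonalTuple r n) ↦ F),
      (∀ g ∈ I ^ (n * c'), ∀ γ : F ⟶ (Formal2.idealPowMod I (n * c') F),
        γ ≫ Formal2.idealPowModι I (n * c') F = Formal.smulMod A F g →
        γ ≫ ΦF = biproduct.lift (fun e : ↥(Finset.Nat.antidiagonalTuple r n) ↦
          Formal.smulMod A F (MvPolynomial.coeff (Finsupp.equivFunOnFinite.symm e.1) (Φ n g)))) ∧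
      ΦF ≫ biproduct.desc (fun e : ↥(Finset.Nat.antidiagonalTuple r n) ↦
          Formal.smulMod A F (∏ j, f j ^ (e.1 j))) = Formal2.idealPowModι I (n * c') F ∧
      (∀ ΦF' : (Formal2.idealPowMod I (n * c') F) ⟶
          ⨁ (fun _ : ↥(Finset.Nat.antidiagonalTuple r n) ↦ F),
        (∀ g ∈ I ^ (n * c'), ∀ γ : F ⟶ (Formal2.idealPowMod I (n * c') F),
          γ ≫ Formal2.idealPowModι I (n * c') F = Formal.smulMod A F g →
          γ ≫ ΦF' = biproduct.lift (fun e : ↥(Finset.Nat.antidiagonalTuple r n) ↦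
            Formal.smulMod A F (MvPolynomial.coeff (Finsupp.equivFunOnFinite.symm e.1) (Φ n g)))) →
        ΦF' = ΦF) := by
  obtain ⟨N, b, hb⟩ := Submodule.fg_iff_exists_fin_generating_family.mp
    (IsNoetherian.noetherian (I ^ (n * c')))
  have hb' : Ideal.span (Set.range b) = I ^ (n * c') := hb
  have hbm := mem_of_gens b hb'
  set p := toIdealPow b F hb' with hp
  have hpe : Epi p := epi_toIdealPow b F hb'
  have hpι : p ≫ Formal2.idealPowModι I (n * c') F = mulMap b F := toIdealPow_ι b F hb'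
  have hιp : ∀ k, (biproduct.ι (fun _ : Fin N => F) k ≫ p) ≫ Formal2.idealPowModι I (n * c') F =
      Formal.smulMod A F (b k) := by
    intro k
    rw [Category.assoc, hpι, mulMap, biproduct.ι_desc]
  let L : A → (F ⟶ ⨁ (fun _ : ↥(Finset.Nat.antidiagonalTuple r n) ↦ F)) := fun g =>
    biproduct.lift (fun e : ↥(Finset.Nat.antidiagonalTuple r n) ↦
      Formal.smulMod A F (coeff (Finsupp.equivFunOnFinite.symm e.1) (Φ n g)))
  let ψ : (⨁ fun _ : Fin N => F) ⟶ ⨁ (fun _ : ↥(Finset.Nat.antidiagonalTuple r n) ↦ F) :=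
    biproduct.desc fun k => L (b k)
  -- the key vanishing
  have hker : kernel.ι p ≫ ψ = 0 := by
    let _ : Module A (kernel p ⟶ F) := homModule A (kernel p) F
    let s : Fin N → (kernel p ⟶ F) := fun k => kernel.ι p ≫ biproduct.π (fun _ : Fin N => F) k
    have hM : ∀ t : (kernel p ⟶ F), (∀ a ∈ I ^ c, a • t = 0) →
        t ∈ (I ^ m • ⊤ : Submodule A (kernel p ⟶ F)) → t = 0 := by
      intro t ht ht'
      refine hF t ht ?_
      refine Submodule.smul_induction_on (p := fun t => t ≫ Formal.modPowπ I m F = 0) ht' ?_ ?_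
      · intro a ha t _
        change (t ≫ Formal.smulMod A F a) ≫ Formal.modPowπ I m F = 0
        rw [Category.assoc, (isModPow_modPowπ I m F).smul_comp a ha, comp_zero]
      · intro x y hx hy
        rw [Preadditive.add_comp, hx, hy, add_zero]
    have h1 : ∑ k, b k • s k = 0 := by
      have h2 : ∑ k, b k • s k = kernel.ι p ≫ mulMap b F := by
        rw [mulMap, ← Category.id_comp (biproduct.desc _), ← biproduct.total]
        simp only [Preadditive.sum_comp, Preadditive.comp_sum, Category.assoc, biproduct.ι_desc]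
        rfl
      rw [h2, ← hpι, kernel.condition_assoc, zero_comp]
    have h3 := h.claim hM hc' n b hbm s h1
    apply biproduct.hom_ext
    intro e
    rw [zero_comp]
    have h4 : (kernel.ι p ≫ ψ) ≫ biproduct.π _ e =
        ∑ k, coeff (Finsupp.equivFunOnFinite.symm e.1) (Φ n (b k)) • s k := by
      have h5 : ψ ≫ biproduct.π _ e = biproduct.desc fun k =>
          Formal.smulMod A F (coeff (Finsupp.equivFunOnFinite.symm e.1) (Φ n (b k))) := by
        apply biproduct.hom_ext'
        intro k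
        rw [biproduct.ι_desc, biproduct.ι_desc_assoc, biproduct.lift_π]
      rw [Category.assoc, h5, ← Category.id_comp (biproduct.desc _), ← biproduct.total]
      simp only [Preadditive.sum_comp, Preadditive.comp_sum, Category.assoc, biproduct.ι_desc]
      rfl
    rw [h4]
    exact h3 _
  have hex : (ShortComplex.mk (kernel.ι p) p (kernel.condition p)).Exact := ShortComplex.exact_kernel p
  let ΦF : (Formal2.idealPowMod I (n * c') F) ⟶
      ⨁ (fun _ : ↥(Finset.Nat.antidiagonalTuple r n) ↦ F) := hex.desc ψ hker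
  have hΦF : p ≫ ΦF = ψ := hex.g_desc ψ hker
  refine ⟨ΦF, ?_, ?_, ?_⟩
  · intro g hg γ hγ
    have hg' : g ∈ Submodule.span A (Set.range b) := by rw [hb]; exact hg
    obtain ⟨a, ha⟩ := (Submodule.mem_span_range_iff_exists_fun A).1 hg'
    have hγ' : γ = ∑ k, Formal.smulMod A F (a k) ≫ biproduct.ι (fun _ : Fin N => F) k ≫ p := by
      rw [← cancel_mono (Formal2.idealPowModι I (n * c') F), hγ, Preadditive.sum_comp, ← ha,
        smulMod_sum]
      refine Finset.sum_congr rfl fun k _ => ?_
      rw [Category.assoc, hιp, ← smulMod_mul, smul_eq_mul, mul_comm]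
    rw [hγ', Preadditive.sum_comp]
    apply biproduct.hom_ext
    intro e
    rw [biproduct.lift_π, Preadditive.sum_comp]
    have h6 : Φ n g = ∑ k, a k • Φ n (b k) := by
      rw [← ha]
      have h7 := h.map_sum n (fun k => a k • b k) (fun k => Ideal.mul_mem_left _ _ (hbm k))
      rw [h7]
      exact Finset.sum_congr rfl fun k _ => h.smul n (a k) (b k) (hbm k)
    rw [h6, coeff_sum, smulMod_sum]
    refine Finset.sum_congr rfl fun k _ => ?_
    have h8 : (biproduct.ι (fun _ : Fin N => F) k ≫ p) ≫ ΦF ≫ biproduct.π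
        (fun _ : ↥(Finset.Nat.antidiagonalTuple r n) => F) e =
        Formal.smulMod A F (coeff (Finsupp.equivFunOnFinite.symm e.1) (Φ n (b k))) := by
      rw [Category.assoc, ← Category.assoc p, hΦF, biproduct.ι_desc_assoc, biproduct.lift_π]
    rw [Category.assoc, Category.assoc, h8, coeff_smul, smul_eq_mul, mul_comm, smulMod_mul]
  · rw [← cancel_epi p, ← Category.assoc, hΦF, hpι]
    apply biproduct.hom_ext'
    intro k
    rw [biproduct.ι_desc_assoc, mulMap, biproduct.ι_desc, biproduct.lift_desc]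
    conv_rhs => rw [← h.sum_coeff f hφ n (b k) (hbm k)]
    rw [smulMod_sum]
    refine Finset.sum_congr rfl fun e _ => ?_
    rw [mul_comm, smulMod_mul]
  · intro ΦF' hΦF'
    rw [← cancel_epi p, hΦF]
    apply biproduct.hom_ext'
    intro k
    rw [biproduct.ι_desc, ← Category.assoc]
    exact hΦF' (b k) (hbm k) _ (hιp k)

end K575.PhiShf
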