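import Groth.Prelude.Def_Formal2
import Groth.Agent.Fdesc.LocGenPullback
import Groth.Agent.Picfga.LineHom

/-!
# Injectivity of `f^*` on Picard groups when `O_Y → f_* O_X` is an isomorphism
-/

set_option autoImplicit false
universe u

open CategoryTheory AlgebraicGeometry TopologicalSpace Opposite

namespace K575.PicFib

open Groth.Agent.Fdesc.LocGen Groth.Agent.Picfga.LineHom

variable {X Y : Scheme.{u}} (f : X ⟶ Y)

/-- Two invertible modules on `Y` with isomorphic pullbacks along `f : X → Y` with `O_Y = f_* O_X` are isomorphic;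
here one of them is the structure sheaf. -/
theorem picPullbackInjective (hfib : ∀ V : Y.Opens, IsIso (f.app V)) : Formal2.PicPullbackInjective f := by
  rintro L hL ⟨φ⟩
  rw [isInvertible_iff] at hL
  choose U e hU he using hL
  have hcov : ⨆ x, U x = ⊤ := by
    rw [eq_top_iff]
    intro z _
    exact Opens.mem_iSup.2 ⟨z, hU z⟩
  have hbij : ∀ V : Y.Opens, Function.Bijective (f.app V) := fun V => by
    have := hfib V
    exact ConcreteCategory.bijective_of_isIso (f.app V)
  -- the functions `a x` on `f⁻¹ U x` with `φ (f^* e x) = a x`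
  have h1 : ∀ x, ∃ a : Γ(X, f ⁻¹ᵁ (U x)), IsUnit a ∧ φ.hom.app (f ⁻¹ᵁ (U x)) (pullSec f (e x)) = a • one _ := by
    intro x
    obtain ⟨a, ha, h⟩ := (isGen_one (f ⁻¹ᵁ (U x))).exists_unit (((he x).pullSec f).app φ.hom)
    exact ⟨a, ha, h⟩
  choose a ha hφ using h1
  have h2 : ∀ x, ∃ b : Γ(Y, U x), f.app (U x) b = a x := fun x => (hbij (U x)).2 (a x)
  choose b hb using h2
  have hbu : ∀ x, IsUnit (b x) := fun x => by
    have := hfib (U x)
    have h3 : IsUnit ((f.app (U x)).hom (b x)) := by
      change IsUnit (f.app (U x) (b x))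
      rw [hb]
      exact ha x
    have h4 := h3.map (inv (f.app (U x))).hom
    have h5 : (inv (f.app (U x))).hom ((f.app (U x)).hom (b x)) = b x := by
      change (f.app (U x) ≫ inv (f.app (U x))).hom (b x) = b x
      rw [IsIso.hom_inv_id]
      rfl
    rwa [h5] at h4
  obtain ⟨ψ, -⟩ := exists_iso (L := L) (N := Coh.structureModule Y) hcov he (n := fun x => b x • one (U x))
    (fun x y V hx hy c hc => by
      have h6 := congrArg (pullSec f) hc
      rw [pullSec_smul, ← res_pullSec, ← res_pullSec] at h6
      have h7 := congrArg (φ.hom.app (f ⁻¹ᵁ V)) h6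
      rw [Scheme.Modules.Hom.app_smul, app_res, app_res, hφ, hφ, res_smul, res_smul, res_one, res_one,
        ← mul_smul] at h7
      have h8 := (isGen_one (f ⁻¹ᵁ V)).ext h7
      rw [res_smul, res_smul, res_one, res_one, ← mul_smul]
      congr 1
      apply (hbij V).1
      have hn : ∀ x (h : V ≤ U x), f.app V (ores h (b x)) = ores (f.preimage_mono h) (a x) := fun x h => by
        rw [← hb x]
        exact ConcreteCategory.congr_hom (f.naturality (homOfLE h).op) (b x)
      rw [map_mul, hn, hn]
      exact h8)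
    (fun x => (isGen_one _).unit_smul (hbu x))
  exact ⟨ψ⟩

end K575.PicFib
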