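import Groth.Agent.Formal2.K575.PrincModPow
import Groth.Agent.S0852

/-!
# Systems with `0 → G_n → G_(n+1) → G_0 → 0`, the composite with the transition being `f`
-/

set_option autoImplicit false
universe u v w

open CategoryTheory CategoryTheory.Limits AlgebraicGeometry Opposite

namespace K575.PrincLim

open Groth.Agent.FormalB.ModPow K575.PrincModPow

variable {A : Type u} [CommRing A] {X : Scheme.{u}} [X.Over (Spec (CommRingCat.of A))]

/-- If `q` is an epimorphism with kernel the image of `f^n`, it is the quotient by `(f)^n`. -/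
theorem isModPow_of_exact {f : A} {n : ℕ} {M N : X.Modules} {q : M ⟶ N} [Epi q]
    (w : Formal.smulMod A M (f ^ n) ≫ q = 0)
    (hex : (ShortComplex.mk (Formal.smulMod A M (f ^ n)) q w).Exact) :
    IsModPow (Ideal.span {f} ^ n) q := by
  refine ⟨inferInstance, fun a ha => ?_, fun {Z} φ hφ => ?_⟩
  · rw [Ideal.span_singleton_pow] at ha
    obtain ⟨b, rfl⟩ := Ideal.mem_span_singleton'.1 ha
    rw [mul_comm, smulMod_mul, Category.assoc, smulMod_naturality, w, zero_comp]
  · have hmem : f ^ n ∈ Ideal.span {f} ^ n := Ideal.pow_mem_pow (Ideal.mem_span_singleton_self f) n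
    exact ⟨hex.desc φ (hφ _ hmem), hex.g_desc _ _⟩

/-- The condition (1). -/
structure Cond (f : A) (G : ℕᵒᵖ ⥤ X.Modules) (i : ∀ n : ℕ, G.obj (op n) ⟶ G.obj (op (n + 1))) :
    Prop where
  mono : ∀ n, Mono (i n)
  fac : ∀ n, G.map (homOfLE (Nat.le_succ n)).op ≫ i n = Formal.smulMod A (G.obj (op (n + 1))) f
  w : ∀ n, i n ≫ G.map (homOfLE (Nat.zero_le (n + 1))).op = 0
  ex : ∀ n, (ShortComplex.mk (i n) (G.map (homOfLE (Nat.zero_le (n + 1))).op) (w n)).ShortExact

namespace Cond

variable {f : A} {G : ℕᵒᵖ ⥤ X.Modules} {i : ∀ n : ℕ, G.obj (op n) ⟶ G.obj (op (n + 1))}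
  (h : Cond f G i)

include h

theorem epi_zero (n : ℕ) : Epi (G.map (homOfLE (Nat.zero_le (n + 1))).op) := (h.ex n).epi_g

theorem smul_zero : Formal.smulMod A (G.obj (op 0)) f = 0 := by
  have := h.epi_zero 0
  rw [← cancel_epi (G.map (homOfLE (Nat.zero_le (0 + 1))).op), comp_zero, ← smulMod_naturality,
    ← h.fac, Category.assoc, h.w, comp_zero]

theorem smul_pow (n : ℕ) : Formal.smulMod A (G.obj (op n)) (f ^ (n + 1)) = 0 := by
  induction n with
  | zero => rw [zero_add, pow_one]; exact h.smul_zero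
  | succ n ih =>
    rw [pow_succ, smulMod_mul, ← h.fac, Category.assoc, ← smulMod_naturality, ih, zero_comp,
      comp_zero]

theorem killedBy (n : ℕ) : Formal.KilledBy (Ideal.span {f} ^ (n + 1)) (G.obj (op n)) := by
  intro a ha
  rw [Ideal.span_singleton_pow] at ha
  obtain ⟨b, rfl⟩ := Ideal.mem_span_singleton'.1 ha
  rw [mul_comm, smulMod_mul, ← smulMod_naturality, h.smul_pow]
  simp

theorem epi_trans (n : ℕ) : Epi (G.map (homOfLE (Nat.le_succ n)).op) := by
  induction n with
  | zero => exact h.epi_zero 0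
  | succ n ih =>
    -- `C` the cokernel of the transition map
    rw [Preadditive.epi_iff_isZero_cokernel]
    set t := G.map (homOfLE (Nat.le_succ (n + 1))).op with ht
    -- `f` is epi on `C`
    have hfC : Epi (Formal.smulMod A (cokernel t) f) := by
      rw [Preadditive.epi_iff_cancel_zero]
      intro P k hk
      have h1 : i n ≫ cokernel.π t ≫ k = 0 := by
        rw [← cancel_epi (G.map (homOfLE (Nat.le_succ n)).op), comp_zero, ← Category.assoc, h.fac,
          smulMod_naturality_assoc, hk, comp_zero]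
      have h2 := (h.ex n).exact
      have := h.epi_zero n
      let d : G.obj (op 0) ⟶ P := h2.desc (cokernel.π t ≫ k) h1
      have hd : G.map (homOfLE (Nat.zero_le (n + 1))).op ≫ d = cokernel.π t ≫ k := h2.g_desc _ _
      have h3 : G.map (homOfLE (Nat.zero_le (n + 1 + 1))).op ≫ d = 0 := by
        have e1 : G.map (homOfLE (Nat.zero_le (n + 1 + 1))).op =
            t ≫ G.map (homOfLE (Nat.zero_le (n + 1))).op := by
          rw [ht, ← G.map_comp]; rfl
        rw [e1, Category.assoc, hd, cokernel.condition_assoc, zero_comp]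
      have := h.epi_zero (n + 1)
      have h4 : d = 0 := by
        rw [← cancel_epi (G.map (homOfLE (Nat.zero_le (n + 1 + 1))).op), h3, comp_zero]
      rw [← cancel_epi (cokernel.π t), ← hd, h4, comp_zero, comp_zero]
    have hpow : ∀ m : ℕ, Epi (Formal.smulMod A (cokernel t) (f ^ m)) := by
      intro m
      induction m with
      | zero => rw [pow_zero, smulMod_one]; infer_instance
      | succ m ihm => rw [pow_succ, smulMod_mul]; exact epi_comp _ _
    have h5 : Formal.smulMod A (cokernel t) (f ^ (n + 1 + 1)) = 0 := by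
      rw [← cancel_epi (cokernel.π t), ← smulMod_naturality, h.smul_pow (n + 1), zero_comp, comp_zero]
    have h6 := hpow (n + 1 + 1)
    rw [h5] at h6
    rw [IsZero.iff_id_eq_zero]
    have h7 : (0 : cokernel t ⟶ cokernel t) ≫ 𝟙 (cokernel t) =
        (0 : cokernel t ⟶ cokernel t) ≫ 0 := by simp
    exact (cancel_epi (0 : cokernel t ⟶ cokernel t)).1 h7

theorem i_trans (n : ℕ) : i (n + 1) ≫ G.map (homOfLE (Nat.le_succ (n + 1))).op =
    G.map (homOfLE (Nat.le_succ n)).op ≫ i n := by
  have := h.epi_trans (n + 1)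
  rw [← cancel_epi (G.map (homOfLE (Nat.le_succ (n + 1))).op), ← Category.assoc, h.fac,
    smulMod_naturality, h.fac]

theorem smul_trans (n : ℕ) : Formal.smulMod A (G.obj (op (n + 1))) (f ^ (n + 1)) ≫
    G.map (homOfLE (Nat.le_succ n)).op = 0 := by
  rw [smulMod_naturality, h.smul_pow, comp_zero]

theorem exists_lift (n : ℕ) : ∀ {K : X.Modules} (φ : K ⟶ G.obj (op (n + 1)))
    (_ : φ ≫ G.map (homOfLE (Nat.le_succ n)).op = 0),
    ∃ (K' : X.Modules) (π : K' ⟶ K) (_ : Epi π) (ω : K' ⟶ G.obj (op (n + 1))),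
      π ≫ φ = ω ≫ Formal.smulMod A (G.obj (op (n + 1))) (f ^ (n + 1)) := by
  induction n with
  | zero =>
    intro K φ hφ
    have hm := h.mono 0
    have he := h.epi_trans 0
    obtain ⟨ψ, hψ⟩ : ∃ ψ : K ⟶ G.obj (op 0), ψ ≫ i 0 = φ :=
      ⟨(h.ex 0).exact.lift φ hφ, (h.ex 0).exact.lift_f _ _⟩
    obtain ⟨K', π, hπ, ω, hω⟩ := surjective_up_to_refinements_of_epi
      (G.map (homOfLE (Nat.le_succ 0)).op) ψ
    refine ⟨K', π, hπ, ω, ?_⟩
    have e : Formal.smulMod A (G.obj (op (0 + 1))) (f ^ (0 + 1)) =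
        Formal.smulMod A (G.obj (op (0 + 1))) f := by rw [zero_add, pow_one]
    rw [e, ← hψ, ← Category.assoc, hω, Category.assoc]
    exact congrArg (fun t => ω ≫ t) (h.fac 0)
  | succ n ih =>
    intro K φ hφ
    have hm := h.mono (n + 1)
    have hm' := h.mono n
    have he := h.epi_trans (n + 1)
    have h0 : φ ≫ G.map (homOfLE (Nat.zero_le (n + 1 + 1))).op = 0 := by
      have e1 : G.map (homOfLE (Nat.zero_le (n + 1 + 1))).op =
          G.map (homOfLE (Nat.le_succ (n + 1))).op ≫ G.map (homOfLE (Nat.zero_le (n + 1))).op := by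
        rw [← G.map_comp]; rfl
      rw [e1, ← Category.assoc, hφ, zero_comp]
    obtain ⟨ψ, hψ⟩ : ∃ ψ : K ⟶ G.obj (op (n + 1)), ψ ≫ i (n + 1) = φ :=
      ⟨(h.ex (n + 1)).exact.lift φ h0, (h.ex (n + 1)).exact.lift_f _ _⟩
    have h1 : ψ ≫ G.map (homOfLE (Nat.le_succ n)).op = 0 := by
      rw [← cancel_mono (i n), zero_comp, Category.assoc, ← h.i_trans, ← Category.assoc, hψ, hφ]
    obtain ⟨K', π, hπ, χ, hχ⟩ := ih ψ h1
    obtain ⟨K'', π', hπ', ω, hω⟩ := surjective_up_to_refinements_of_epi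
      (G.map (homOfLE (Nat.le_succ (n + 1))).op) χ
    refine ⟨K'', π' ≫ π, inferInstance, ω, ?_⟩
    rw [pow_succ f (n + 1), smulMod_mul, ← h.fac (n + 1), ← hψ, Category.assoc,
      ← Category.assoc π, hχ, Category.assoc, smulMod_naturality, ← Category.assoc π', hω,
      Category.assoc, Category.assoc]

theorem exact_trans (n : ℕ) : (ShortComplex.mk (Formal.smulMod A (G.obj (op (n + 1))) (f ^ (n + 1)))
    (G.map (homOfLE (Nat.le_succ n)).op) (h.smul_trans n)).Exact := by
  rw [ShortComplex.exact_iff_exact_up_to_refinements]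
  intro K φ hφ
  obtain ⟨K', π, hπ, ω, hω⟩ := h.exists_lift n φ hφ
  exact ⟨K', π, hπ, ω, hω⟩

theorem isModPow_trans (n : ℕ) : IsModPow (Ideal.span {f} ^ (n + 1))
    (G.map (homOfLE (Nat.le_succ n)).op) :=
  have := h.epi_trans n
  isModPow_of_exact (h.smul_trans n) (h.exact_trans n)

theorem isQCohFormal (hqc : ∀ n : ℕᵒᵖ, Coh.IsQCoh (G.obj n)) :
    Formal2.IsQCohFormal (Ideal.span {f}) G :=
  ⟨fun n => hqc _, h.killedBy, fun n => (isModPow_iff _).1 (h.isModPow_trans n)⟩

theorem mono_limit : Mono (Formal.smulMod A (limit G) f) := by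
  refine Preadditive.mono_of_cancel_zero _ fun {K} k hk => ?_
  apply limit.hom_ext
  rintro ⟨n⟩
  have := h.mono n
  rw [zero_comp, ← cancel_mono (i n), zero_comp, ← limit.w G (homOfLE (Nat.le_succ n)).op,
    Category.assoc, Category.assoc, h.fac, ← smulMod_naturality, ← Category.assoc, hk, zero_comp]

theorem main (hqc : ∀ n : ℕᵒᵖ, Coh.IsQCoh (G.obj n)) : ∃ F : X.Modules,
    Mono (Formal.smulMod A F f) ∧
      Nonempty (Formal.completion (Ideal.span ({f} : Set A)) F ≅ G) := by
  have hG := h.isQCohFormal hqc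
  refine ⟨limit G, h.mono_limit, ⟨completionIso _ (fun n => limit.π G (op n)) (fun n => ?_)
    (fun n => limit.w G _)⟩⟩
  rw [isModPow_iff]
  exact Groth.Agent.S0852.result A _ ⟨{f}, by simp⟩ X G hG n

end Cond

end K575.PrincLim
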