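import Groth.Agent.FormalB.ModPow

/-!
# The quotients `F/f^n F` of a module on which multiplication by `f` is a monomorphism
-/

set_option autoImplicit false
universe u v w

open CategoryTheory CategoryTheory.Limits AlgebraicGeometry Opposite

namespace K575.PrincModPow

open Groth.Agent.FormalB.ModPow

section Abelian

variable {C : Type v} [Category.{w} C] [Abelian C]

/-- `f`, `g = f^n`, `h = f^(n+1)` commuting with `g` mono; `i : M/f → M/h` induced by `g` is mono. -/
theorem mono_core {M E G : C} {f g h : M ⟶ M} {q₁ : M ⟶ E} {q : M ⟶ G} [Mono g] [Epi q₁]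
    (hq₁ : f ≫ q₁ = 0) (hh : h = f ≫ g) (w : h ≫ q = 0) (hex : (ShortComplex.mk h q w).Exact)
    {i : E ⟶ G} (hi : q₁ ≫ i = g ≫ q) : Mono i := by
  refine Preadditive.mono_of_cancel_zero _ fun {K} k hk => ?_
  obtain ⟨K', π, hπ, t, ht⟩ := surjective_up_to_refinements_of_epi q₁ k
  have h1 : (t ≫ g) ≫ q = 0 := by
    rw [Category.assoc, ← hi, ← Category.assoc, ← ht, Category.assoc, hk, comp_zero]
  obtain ⟨K'', π', hπ', x, hx⟩ := hex.exact_up_to_refinements (t ≫ g) h1
  change π' ≫ t ≫ g = x ≫ h at hx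
  have h2 : π' ≫ t = x ≫ f := by
    rw [← cancel_mono g, Category.assoc, Category.assoc, hx]
    exact congrArg (fun t => x ≫ t) hh
  rw [← cancel_epi π, ← cancel_epi π', comp_zero, comp_zero, ht, ← Category.assoc, h2,
    Category.assoc, hq₁, comp_zero]

/-- exactness of `M/f → M/f^(n+1) → M/f^n`. -/
theorem exact_core {M E G Q : C} {g : M ⟶ M} {q₁ : M ⟶ E} {q : M ⟶ G} [Epi q] {p : G ⟶ Q}
    (w : g ≫ q ≫ p = 0) (hex : (ShortComplex.mk g (q ≫ p) w).Exact)
    {i : E ⟶ G} (hi : q₁ ≫ i = g ≫ q) (w' : i ≫ p = 0) : (ShortComplex.mk i p w').Exact := by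
  rw [ShortComplex.exact_iff_exact_up_to_refinements]
  intro K φ hφ
  change φ ≫ p = 0 at hφ
  obtain ⟨K', π, hπ, t, ht⟩ := surjective_up_to_refinements_of_epi q φ
  have h1 : t ≫ q ≫ p = 0 := by
    rw [← Category.assoc, ← ht, Category.assoc, hφ, comp_zero]
  obtain ⟨K'', π', hπ', x, hx⟩ := hex.exact_up_to_refinements t h1
  change π' ≫ t = x ≫ g at hx
  refine ⟨K'', π' ≫ π, inferInstance, x ≫ q₁, ?_⟩
  change (π' ≫ π) ≫ φ = (x ≫ q₁) ≫ i
  rw [Category.assoc, ht, ← Category.assoc, hx, Category.assoc, Category.assoc, hi]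

end Abelian

variable {A : Type u} [CommRing A] {X : Scheme.{u}} [X.Over (Spec (CommRingCat.of A))]

/-- The quotient by a principal ideal is a cokernel of multiplication by the generator. -/
theorem exact_of_isModPow {f : A} {n : ℕ} {M N : X.Modules} {q : M ⟶ N}
    (hq : IsModPow (Ideal.span {f} ^ n) q) :
    ∃ w : Formal.smulMod A M (f ^ n) ≫ q = 0,
      (ShortComplex.mk (Formal.smulMod A M (f ^ n)) q w).Exact := by
  have hmem : f ^ n ∈ Ideal.span {f} ^ n := Ideal.pow_mem_pow (Ideal.mem_span_singleton_self f) n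
  have hepi := hq.epi
  have key : ∀ {Z : X.Modules} (k : M ⟶ Z), Formal.smulMod A M (f ^ n) ≫ k = 0 →
      ∃ ψ : N ⟶ Z, q ≫ ψ = k := by
    intro Z k hk
    refine hq.desc k fun a ha => ?_
    rw [Ideal.span_singleton_pow] at ha
    obtain ⟨b, rfl⟩ := Ideal.mem_span_singleton'.1 ha
    rw [mul_comm, smulMod_mul, Category.assoc, hk, comp_zero]
  refine ⟨hq.smul_comp _ hmem, ?_⟩
  apply ShortComplex.exact_of_g_is_cokernel
  exact CokernelCofork.IsColimit.ofπ _ _ (fun {Z} k hk => (key k hk).choose) (fun {Z} k hk =>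
    (key k hk).choose_spec) (fun {Z} k hk m hm => (cancel_epi q).1 (hm.trans (key k hk).choose_spec.symm))

theorem mono_smulMod_pow (F : X.Modules) (f : A) (hF : Mono (Formal.smulMod A F f)) (n : ℕ) :
    Mono (Formal.smulMod A F (f ^ n)) := by
  induction n with
  | zero => rw [pow_zero, smulMod_one]; infer_instance
  | succ n ih => rw [pow_succ, smulMod_mul]; exact mono_comp _ _

/-- The short exact sequence `0 → F/fF → F/f^(n+1)F → F/f^nF → 0`. -/
theorem main (f : A) (F : X.Modules) (hF : Mono (Formal.smulMod A F f)) (n : ℕ) :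
    ∃ i : Formal.modPow (Ideal.span ({f} : Set A)) 1 F ⟶
      Formal.modPow (Ideal.span ({f} : Set A)) (n + 1) F, Mono i ∧
      Formal2.modPowLE (Ideal.span ({f} : Set A)) (Nat.le_add_left 1 n) F ≫ i =
        Formal.smulMod A (Formal.modPow (Ideal.span ({f} : Set A)) (n + 1) F) (f ^ n) ∧
      ∃ w : i ≫ Formal.modPowTrans (Ideal.span ({f} : Set A)) n F = 0,
        (ShortComplex.mk i (Formal.modPowTrans (Ideal.span ({f} : Set A)) n F) w).ShortExact := by
  set I : Ideal A := Ideal.span ({f} : Set A) with hI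
  have hfg := mono_smulMod_pow F f hF n
  have hff := mono_smulMod_pow F f hF (n + 1)
  obtain ⟨w1, e1⟩ := exact_of_isModPow (isModPow_modPowπ I 1 F)
  obtain ⟨wn, en⟩ := exact_of_isModPow (isModPow_modPowπ I n F)
  obtain ⟨wn1, en1⟩ := exact_of_isModPow (isModPow_modPowπ I (n + 1) F)
  have hw1 : Formal.smulMod A F f ≫ Formal.modPowπ I 1 F = 0 := by
    have := w1
    rwa [pow_one] at this
  have hh : Formal.smulMod A F (f ^ (n + 1)) = Formal.smulMod A F f ≫ Formal.smulMod A F (f ^ n) := by
    rw [← smulMod_mul, ← pow_succ]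
  obtain ⟨i, hi⟩ := (isModPow_modPowπ I 1 F).desc
    (Formal.smulMod A F (f ^ n) ≫ Formal.modPowπ I (n + 1) F) (by
      intro a ha
      rw [pow_one] at ha
      obtain ⟨b, rfl⟩ := Ideal.mem_span_singleton'.1 ha
      rw [mul_comm, smulMod_mul, Category.assoc, ← Category.assoc (Formal.smulMod A F f), ← hh, wn1,
        comp_zero])
  have hw : i ≫ Formal.modPowTrans I n F = 0 := by
    rw [← cancel_epi (Formal.modPowπ I 1 F), ← Category.assoc, hi, Category.assoc,
      Formal.modPowπ_trans, wn, comp_zero]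
  have hm : Mono i := mono_core hw1 hh wn1 en1 hi
  refine ⟨i, hm, ?_, hw, ?_⟩
  · rw [← cancel_epi (Formal.modPowπ I (n + 1) F), ← Category.assoc, Formal2.modPowπ_modPowLE, hi,
      smulMod_naturality]
  · have hex : (ShortComplex.mk i (Formal.modPowTrans I n F) hw).Exact := by
      have w2 : Formal.smulMod A F (f ^ n) ≫ Formal.modPowπ I (n + 1) F ≫
          Formal.modPowTrans I n F = 0 := by
        rw [Formal.modPowπ_trans, wn]
      refine exact_core w2 ?_ hi hw
      have : ShortComplex.mk (Formal.smulMod A F (f ^ n)) (Formal.modPowπ I (n + 1) F ≫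
          Formal.modPowTrans I n F) w2 =
          ShortComplex.mk (Formal.smulMod A F (f ^ n)) (Formal.modPowπ I n F) wn := by
        congr 1
        exact Formal.modPowπ_trans I n F
      rw [this]
      exact en
    have hepi : Epi (Formal.modPowTrans I n F) := by
      have h1 : Epi (Formal.modPowπ I (n + 1) F ≫ Formal.modPowTrans I n F) := by
        rw [Formal.modPowπ_trans]; infer_instance
      exact epi_of_epi (Formal.modPowπ I (n + 1) F) _
    exact { exact := hex, mono_f := hm, epi_g := hepi }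

end K575.PrincModPow
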